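import Cfsg.Agent.H967.XZ.FBeta
import Cfsg.Agent.H326.EB.Cells
import Cfsg.Agent.H626.ExtB.Perm
import Cfsg.Agent.H139.RealB0.Crit
import Cfsg.Agent.H668.XZ.C3
import Cfsg.Agent.H508.XR.Defs2
import Cfsg.Agent.H461.CoxB

/-!
# Families of characters and overgroups (helper967, for S4791, S4927)

`f : S →* A` injective with normal image, `B` a subgroup of `S`, `Y₀` a subgroup of `A` with `Y₀ ∩ S = B`, `A = S Y₀` which
fixes all double cosets of `B` (`Dc f B Y₀`).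

* `ov f Y₀ X` : the overgroup of `Y₀` which belongs to a subgroup `X ≥ B` of `S`;
* `ip_ov` : a constituent `χ` of `1_{Y₀}^A` has the same multiplicity in `1_Y^A` as its restriction in `1_X^S`;
* `exists_ext` : disjoint integer combinations of permutation characters with `F(ψ_i) ≠ 0` on `A` give characters of `X₀(A)`
  with irreducible and different restrictions to `S`.
-/

set_option autoImplicit false
set_option linter.unusedSectionVars false
set_option linter.unusedVariables false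

open Cfsg

namespace Cfsg.Agent.H967.XZ

universe u v

open Cfsg.Agent.Characters.Core Cfsg.Agent.H145.BR Cfsg.Agent.H674.XZ
open Cfsg.Agent.H508.XR (ExtY)
open scoped ComplexConjugate

/-! ### characters -/

section char

/-- a character which contains the trivial character, on a subgroup -/
theorem one_restrict {G : Type u} [Group G] [Finite G] {χ : G → ℂ} (hχ : IsCharacter G χ) (H : Subgroup G)
    (h : ip 1 χ ≠ 0) : ip (1 : H → ℂ) (fun x : H => χ x) ≠ 0 := by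
  classical
  let : Fintype G := Fintype.ofFinite _
  let : Fintype H := Fintype.ofFinite _
  have hfin : Finite (IrrCharacter G) := finite_irr
  let : Fintype (IrrCharacter G) := Fintype.ofFinite _
  obtain ⟨b, hb⟩ := exists_nat_comb hχ
  have h1G : IsIrrCharacter G (1 : G → ℂ) := isIrr_one
  have h1H : IsCharacter H (1 : H → ℂ) := isIrr_isCharacter isIrr_one
  let o : IrrCharacter G := ⟨1, h1G⟩
  have hr : ∀ ζ : IrrCharacter G, IsCharacter H (fun x : H => (ζ : G → ℂ) x) := fun ζ =>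
    isCharacter_comp H.subtype (isIrr_isCharacter ζ.2)
  choose c hc using fun ζ : IrrCharacter G => ip_nat h1H (hr ζ)
  have e1 : ip 1 χ = b o := by
    rw [ip_eq, hb, classInner_sum_right]
    rw [Finset.sum_eq_single o]
    · rw [← Nat.cast_smul_eq_nsmul ℂ, classInner_smul_right, map_natCast]
      have : classInner (1 : G → ℂ) (o : G → ℂ) = 1 := classInner_irr_self h1G
      rw [this, mul_one]
    · intro ζ _ hne
      rw [← Nat.cast_smul_eq_nsmul ℂ, classInner_smul_right]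
      have h2 : classInner (1 : G → ℂ) (ζ : G → ℂ) = 0 := classInner_irr_ne h1G ζ.2 fun e => hne (Subtype.ext e.symm)
      rw [h2, mul_zero]
    · intro h2
      exact absurd (Finset.mem_univ _) h2
  have e2 : ip (1 : H → ℂ) (fun x : H => χ x) = ((∑ ζ : IrrCharacter G, b ζ * c ζ : ℕ) : ℂ) := by
    have h2 : (fun x : H => χ x) = ∑ ζ : IrrCharacter G, (b ζ : ℂ) • (fun x : H => (ζ : G → ℂ) x) := by
      funext x
      have h3 := congrFun hb (x : G)
      simp only [Finset.sum_apply, Pi.smul_apply, nsmul_eq_mul, smul_eq_mul] at h3 ⊢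
      exact h3
    rw [ip_eq, h2, classInner_sum_right]
    push_cast
    refine Finset.sum_congr rfl fun ζ _ => ?_
    rw [classInner_smul_right, map_natCast, ← ip_eq, hc]
  rw [e2]
  have h3 : b o ≠ 0 := by
    intro h4
    apply h
    rw [e1, h4, Nat.cast_zero]
  have h4 : c o ≠ 0 := by
    intro h5
    have h6 := hc o
    rw [h5, Nat.cast_zero] at h6
    have h7 : ip (1 : H → ℂ) (1 : H → ℂ) = 1 := by
      rw [ip_eq]
      exact classInner_irr_self isIrr_one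
    rw [show (fun x : H => (o : G → ℂ) x) = (1 : H → ℂ) from rfl, h7] at h6
    exact one_ne_zero h6
  have h5 : 0 < ∑ ζ : IrrCharacter G, b ζ * c ζ :=
    Finset.sum_pos' (fun ζ _ => Nat.zero_le _) ⟨o, Finset.mem_univ _, Nat.mul_pos (Nat.pos_of_ne_zero h3) (Nat.pos_of_ne_zero h4)⟩
  exact_mod_cast h5.ne'

/-- Frobenius reciprocity -/
theorem ip_quot {A : Type u} [Group A] [Finite A] (Y : Subgroup A) (χ : IrrCharacter A) :
    ip (permC A (A ⧸ Y)) (χ : A → ℂ) = ip (1 : Y → ℂ) (fun y : Y => (χ : A → ℂ) y) := by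
  classical
  let : Fintype A := Fintype.ofFinite _
  let : Fintype Y := Fintype.ofFinite _
  rw [ip_eq, ip_eq, permC_quot, H139.RealB0.Crit.classInner_fixedPointCharacter Y χ, classInner_def]
  congr 1
  refine Finset.sum_congr rfl fun y _ => ?_
  rw [Pi.one_apply, one_mul]

/-- the multiplicities in the permutation characters -/
theorem ip_mono {A : Type u} [Group A] [Finite A] {Y₀ Y : Subgroup A} (h : Y₀ ≤ Y) {χ : IrrCharacter A}
    (hχ : ip (permC A (A ⧸ Y)) (χ : A → ℂ) ≠ 0) : ip (permC A (A ⧸ Y₀)) (χ : A → ℂ) ≠ 0 := by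
  classical
  rw [ip_quot] at hχ ⊢
  have h1 : IsCharacter Y (fun y : Y => (χ : A → ℂ) y) := isCharacter_comp Y.subtype (isIrr_isCharacter χ.2)
  have h2 := one_restrict h1 (Y₀.subgroupOf Y) hχ
  let : Fintype A := Fintype.ofFinite _
  let : Fintype Y := Fintype.ofFinite _
  let : Fintype Y₀ := Fintype.ofFinite _
  let : Fintype (Y₀.subgroupOf Y) := Fintype.ofFinite _
  rw [ip_eq, classInner_def] at h2 ⊢
  have e : Nat.card (Y₀.subgroupOf Y) = Nat.card Y₀ := Nat.card_congr (Subgroup.subgroupOfEquivOfLe h).toEquiv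
  rw [e] at h2
  have h3 : ∑ g : (Y₀.subgroupOf Y), (1 : (Y₀.subgroupOf Y) → ℂ) g * conj ((χ : A → ℂ) ((g : Y) : A)) =
      ∑ g : Y₀, (1 : Y₀ → ℂ) g * conj ((χ : A → ℂ) (g : A)) := by
    refine Fintype.sum_equiv (Subgroup.subgroupOfEquivOfLe h).toEquiv _ _ fun g => ?_
    rfl
  rw [h3] at h2
  exact h2

end char

/-! ### overgroups -/

section og

variable {S : Type*} [Group S] {A : Type u} [Group A] {f : S →* A} {B : Subgroup S} {Y₀ : Subgroup A}

/-- the subgroup `Y₀` fixes the double cosets of `B` -/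
structure Dc (f : S →* A) (B : Subgroup S) (Y₀ : Subgroup A) : Prop where
  inj : Function.Injective f
  nor : f.range.Normal
  comap : Y₀.comap f = B
  sup : f.range ⊔ Y₀ = ⊤
  dc : ∀ s : S, ∀ y ∈ Y₀, ∃ x₁ ∈ B, ∃ x₂ ∈ B, ∃ s' : S, f s' = y * f s * y⁻¹ ∧ s' = x₁ * s * x₂

/-- the overgroup of `Y₀` which belongs to `X ≥ B` -/
def ov (f : S →* A) (Y₀ : Subgroup A) (X : Subgroup S) : Subgroup A := Y₀ ⊔ X.map f

theorem Dc.mem_iff (D : Dc f B Y₀) {s : S} : f s ∈ Y₀ ↔ s ∈ B := by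
  rw [← D.comap]
  rfl

theorem Dc.conj (D : Dc f B Y₀) {X : Subgroup S} (hX : B ≤ X) {s : S} (hs : s ∈ X) {y : A} (hy : y ∈ Y₀) :
    ∃ s' ∈ X, f s' = y * f s * y⁻¹ := by
  obtain ⟨x₁, h1, x₂, h2, s', h3, rfl⟩ := D.dc s y hy
  exact ⟨_, mul_mem (mul_mem (hX h1) hs) (hX h2), h3⟩

theorem Dc.mem_ov (D : Dc f B Y₀) {X : Subgroup S} (hX : B ≤ X) {a : A} :
    a ∈ ov f Y₀ X ↔ ∃ y ∈ Y₀, ∃ x ∈ X, a = y * f x := by
  constructor
  · intro ha
    unfold ov at ha
    let K : Subgroup A :=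
      { carrier := {a | ∃ y ∈ Y₀, ∃ x ∈ X, a = y * f x}
        one_mem' := ⟨1, one_mem _, 1, one_mem _, by rw [map_one, mul_one]⟩
        mul_mem' := by
          rintro _ _ ⟨y, hy, x, hx, rfl⟩ ⟨y', hy', x', hx', rfl⟩
          obtain ⟨s', hs', e⟩ := D.conj hX hx (inv_mem hy')
          refine ⟨y * y', mul_mem hy hy', s' * x', mul_mem hs' hx', ?_⟩
          rw [map_mul, e]
          group
        inv_mem' := by
          rintro _ ⟨y, hy, x, hx, rfl⟩
          obtain ⟨s', hs', e⟩ := D.conj hX (inv_mem hx) hy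
          refine ⟨y⁻¹, inv_mem hy, s', hs', ?_⟩
          rw [e, map_inv]
          group }
    have hK : Y₀ ⊔ X.map f ≤ K := by
      rw [sup_le_iff]
      refine ⟨fun y hy => ⟨y, hy, 1, one_mem _, by rw [map_one, mul_one]⟩, ?_⟩
      rintro _ ⟨x, hx, rfl⟩
      exact ⟨1, one_mem _, x, hx, by rw [one_mul]⟩
    exact hK ha
  · rintro ⟨y, hy, x, hx, rfl⟩
    exact mul_mem ((le_sup_left : Y₀ ≤ ov f Y₀ X) hy) ((le_sup_right : X.map f ≤ ov f Y₀ X) ⟨x, hx, rfl⟩)

theorem Dc.ov_comap (D : Dc f B Y₀) {X : Subgroup S} (hX : B ≤ X) : (ov f Y₀ X).comap f = X := by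
  ext s
  rw [Subgroup.mem_comap, D.mem_ov hX]
  constructor
  · rintro ⟨y, hy, x, hx, e⟩
    have h1 : f (s * x⁻¹) = y := by rw [map_mul, map_inv, e, mul_inv_cancel_right]
    have h2 : s * x⁻¹ ∈ B := D.mem_iff.1 (by rw [h1]; exact hy)
    have h3 := mul_mem (hX h2) hx
    rwa [inv_mul_cancel_right] at h3
  · intro hs
    exact ⟨1, one_mem _, s, hs, by rw [one_mul]⟩

theorem Dc.ov_sup (D : Dc f B Y₀) (X : Subgroup S) : f.range ⊔ ov f Y₀ X = ⊤ := by
  rw [eq_top_iff, ← D.sup]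
  exact sup_le_sup le_rfl le_sup_left

theorem ov_mono {X X' : Subgroup S} (h : X ≤ X') : ov f Y₀ X ≤ ov f Y₀ X' :=
  sup_le_sup le_rfl (Subgroup.map_mono h)

theorem le_ov (X : Subgroup S) : Y₀ ≤ ov f Y₀ X := le_sup_left

theorem Dc.ov_base (D : Dc f B Y₀) : ov f Y₀ B = Y₀ := by
  refine le_antisymm (sup_le le_rfl ?_) le_sup_left
  rintro _ ⟨x, hx, rfl⟩
  exact D.mem_iff.2 hx

theorem Dc.exists_rep (D : Dc f B Y₀) (X : Subgroup S) (a : A) : ∃ s : S, (f s)⁻¹ * a ∈ ov f Y₀ X := by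
  have := D.nor
  have h1 : a ∈ f.range ⊔ ov f Y₀ X := by rw [D.ov_sup]; exact Subgroup.mem_top a
  rw [Subgroup.mem_sup_of_normal_left] at h1
  obtain ⟨n, ⟨s, rfl⟩, y, hy, rfl⟩ := h1
  exact ⟨s, by rwa [inv_mul_cancel_left]⟩

/-- the cosets -/
noncomputable def Dc.eqv (D : Dc f B Y₀) {X : Subgroup S} (hX : B ≤ X) : S ⧸ X ≃ A ⧸ ov f Y₀ X := by
  have hinf : ∀ s : S, f s ∈ ov f Y₀ X ↔ s ∈ X := fun s => by
    conv_rhs => rw [← D.ov_comap hX]
    rfl
  refine Equiv.ofBijective (fun x : S ⧸ X => Quotient.liftOn' x (fun s => (QuotientGroup.mk (f s) : A ⧸ ov f Y₀ X)) ?_) ⟨?_, ?_⟩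
  · intro s t hst'
    have h1 : s⁻¹ * t ∈ X := QuotientGroup.leftRel_apply.1 hst'
    rw [QuotientGroup.eq, ← map_inv, ← map_mul]
    exact (hinf _).2 h1
  · intro x y
    induction x using QuotientGroup.induction_on with
    | _ s =>
    induction y using QuotientGroup.induction_on with
    | _ t =>
    intro h
    have h1 : (QuotientGroup.mk (f s) : A ⧸ ov f Y₀ X) = QuotientGroup.mk (f t) := h
    rw [QuotientGroup.eq, ← map_inv, ← map_mul, hinf] at h1
    exact QuotientGroup.eq.2 h1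
  · intro y
    induction y using QuotientGroup.induction_on with
    | _ a =>
    obtain ⟨s, hs⟩ := D.exists_rep X a
    exact ⟨QuotientGroup.mk s, QuotientGroup.eq.2 hs⟩

theorem Dc.eqv_mk (D : Dc f B Y₀) {X : Subgroup S} (hX : B ≤ X) (s : S) :
    D.eqv hX (QuotientGroup.mk s) = QuotientGroup.mk (f s) := rfl

theorem Dc.eqv_smul (D : Dc f B Y₀) {X : Subgroup S} (hX : B ≤ X) (s : S) (x : S ⧸ X) :
    D.eqv hX (s • x) = f s • D.eqv hX x := by
  induction x using QuotientGroup.induction_on with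
  | _ t =>
  show D.eqv hX (QuotientGroup.mk (s * t)) = f s • D.eqv hX (QuotientGroup.mk t)
  rw [D.eqv_mk, D.eqv_mk, map_mul]
  rfl

theorem Dc.index (D : Dc f B Y₀) {X : Subgroup S} (hX : B ≤ X) : (ov f Y₀ X).index = X.index :=
  (Nat.card_congr (D.eqv hX)).symm

/-- the restriction of the permutation character -/
theorem Dc.permC_apply (D : Dc f B Y₀) {X : Subgroup S} (hX : B ≤ X) (s : S) :
    permC A (A ⧸ ov f Y₀ X) (f s) = permC S (S ⧸ X) s := by
  unfold permC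
  congr 1
  refine (Nat.card_congr ((D.eqv hX).subtypeEquiv fun x => ?_)).symm
  show s • x = x ↔ f s • D.eqv hX x = D.eqv hX x
  rw [← D.eqv_smul]
  exact ⟨fun e => by rw [e], fun e => (D.eqv hX).injective e⟩

end og

section norm

variable {S : Type v} [Group S] [Finite S] {A : Type u} [Group A] [Finite A] {f : S →* A} {B : Subgroup S} {Y₀ : Subgroup A}

open Cfsg.Agent.H626.ExtB.Perm in
theorem Dc.samePairs (D : Dc f B Y₀) : SamePairs f.range Y₀ := by
  have hSK : ∀ a : A, ∃ s : S, (f s)⁻¹ * a ∈ Y₀ := fun a => by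
    have h := D.exists_rep B a
    rwa [D.ov_base] at h
  intro a x y
  have hrep : ∀ z : A ⧸ Y₀, ∃ s : S, z = QuotientGroup.mk (f s) := by
    intro z
    induction z using QuotientGroup.induction_on with
    | _ b =>
    obtain ⟨s, hs⟩ := hSK b
    exact ⟨s, (QuotientGroup.eq.2 hs).symm⟩
  obtain ⟨s₁, rfl⟩ := hrep x
  obtain ⟨s₂, rfl⟩ := hrep y
  obtain ⟨t, ht⟩ := hSK (a * f s₁)
  set k : A := (f t)⁻¹ * (a * f s₁) with hk
  obtain ⟨h, hh, h', hh', s', hs', hd⟩ := D.dc (s₁⁻¹ * s₂) k ht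
  refine ⟨f (t * h * s₁⁻¹), ⟨_, rfl⟩, ?_, ?_⟩
  · show (QuotientGroup.mk (f (t * h * s₁⁻¹) * f s₁) : A ⧸ Y₀) = QuotientGroup.mk (a * f s₁)
    rw [QuotientGroup.eq]
    have e : (f (t * h * s₁⁻¹) * f s₁)⁻¹ * (a * f s₁) = f h⁻¹ * k := by
      rw [hk, map_mul, map_mul, map_inv, map_inv]
      group
    rw [e]
    exact mul_mem (D.mem_iff.2 (inv_mem hh)) ht
  · show (QuotientGroup.mk (f (t * h * s₁⁻¹) * f s₂) : A ⧸ Y₀) = QuotientGroup.mk (a * f s₂)
    rw [QuotientGroup.eq]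
    have e : (f (t * h * s₁⁻¹) * f s₂)⁻¹ * (a * f s₂) = f h' * k := by
      have h1 : a * f s₂ = f t * (k * f (s₁⁻¹ * s₂) * k⁻¹) * k := by
        rw [hk, map_mul, map_inv]
        group
      rw [h1, ← hs', hd, map_mul, map_mul, map_mul, map_mul, map_mul, map_inv]
      group
    rw [e]
    exact mul_mem (D.mem_iff.2 hh') ht

open Cfsg.Agent.H626.ExtB.Perm in
theorem Dc.norm (D : Dc f B Y₀) : ip (permC A (A ⧸ Y₀)) (permC A (A ⧸ Y₀)) =
    ip (fun x : f.range => permC A (A ⧸ Y₀) x) (fun x : f.range => permC A (A ⧸ Y₀) x) := by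
  classical
  let : Fintype A := Fintype.ofFinite _
  let : Fintype f.range := Fintype.ofFinite _
  rw [ip_eq, ip_eq, permC_quot, classInner_self]
  exact (classInner_self_restrict f.range Y₀ D.samePairs).symm

/-- the constituents of `1_{Y₀}^A` have irreducible and different restrictions to the image of `S` -/
theorem Dc.restrict (D : Dc f B Y₀) {χ : IrrCharacter A} (hχ : ip (permC A (A ⧸ Y₀)) (χ : A → ℂ) ≠ 0) :
    IsIrrCharacter f.range (fun x : f.range => (χ : A → ℂ) x) ∧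
      ∀ χ' : IrrCharacter A, ip (permC A (A ⧸ Y₀)) (χ' : A → ℂ) ≠ 0 →
      ip (fun x : f.range => (χ : A → ℂ) x) (fun x : f.range => (χ' : A → ℂ) x) ≠ 0 → χ = χ' :=
  H668.XZ.restrict_of_norm f.range (H626.ExtB.Perm.isCharacter_fix Y₀) D.norm hχ

/-- transport of the inner product to the image -/
theorem ip_range (hf : Function.Injective f) (ψ χ : A → ℂ) :
    ip (fun s : S => ψ (f s)) (fun s : S => χ (f s)) = ip (fun x : f.range => ψ x) (fun x : f.range => χ x) := by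
  let : Fintype S := Fintype.ofFinite _
  let : Fintype f.range := Fintype.ofFinite _
  let e : S ≃* f.range := MonoidHom.ofInjective hf
  rw [ip_eq, ip_eq, classInner_def, classInner_def, Nat.card_congr e.toEquiv]
  congr 1
  exact Fintype.sum_equiv e.toEquiv _ _ fun s => rfl

theorem Dc.irr (D : Dc f B Y₀) {χ : IrrCharacter A} (hχ : ip (permC A (A ⧸ Y₀)) (χ : A → ℂ) ≠ 0) :
    IsIrrCharacter S (fun s : S => (χ : A → ℂ) (f s)) :=
  isIrr_comp f.rangeRestrict f.rangeRestrict_surjective (D.restrict hχ).1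

/-- **The multiplicities on `A` and on `S` agree.** -/
theorem Dc.ip_ov (D : Dc f B Y₀) {X : Subgroup S} (hX : B ≤ X) {χ : IrrCharacter A}
    (hχ : ip (permC A (A ⧸ Y₀)) (χ : A → ℂ) ≠ 0) :
    ip (permC A (A ⧸ ov f Y₀ X)) (χ : A → ℂ) = ip (permC S (S ⧸ X)) (fun s : S => (χ : A → ℂ) (f s)) := by
  classical
  let : Fintype A := Fintype.ofFinite _
  let : Fintype f.range := Fintype.ofFinite _
  have hfin : Finite (IrrCharacter A) := finite_irr
  let : Fintype (IrrCharacter A) := Fintype.ofFinite _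
  obtain ⟨b, hb⟩ := exists_nat_comb (H626.ExtB.Perm.isCharacter_fix (ov f Y₀ X))
  have hb' : permC A (A ⧸ ov f Y₀ X) = ∑ ζ : IrrCharacter A, b ζ • (ζ : A → ℂ) := hb
  have hbχ : ∀ ζ : IrrCharacter A, ip (permC A (A ⧸ ov f Y₀ X)) (ζ : A → ℂ) = b ζ := by
    intro ζ
    rw [ip_eq, hb', classInner_sum_nsmul_irr]
  have e0 : (fun s : S => permC A (A ⧸ ov f Y₀ X) (f s)) = permC S (S ⧸ X) := by
    funext s
    exact D.permC_apply hX s
  rw [← e0, ip_range D.inj, hbχ]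
  have e1 : (fun x : f.range => permC A (A ⧸ ov f Y₀ X) x) =
      ∑ ζ : IrrCharacter A, (b ζ : ℂ) • (fun x : f.range => (ζ : A → ℂ) x) := by
    funext x
    have h1 := congrFun hb' (x : A)
    simp only [Finset.sum_apply, Pi.smul_apply, nsmul_eq_mul, smul_eq_mul] at h1 ⊢
    exact h1
  rw [e1, ip_eq, classInner_sum_left, Finset.sum_eq_single χ]
  · rw [classInner_smul_left, classInner_irr_self (D.restrict hχ).1, mul_one]
  · intro ζ _ hne
    rw [classInner_smul_left]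
    by_cases h0 : b ζ = 0
    · rw [h0, Nat.cast_zero, zero_mul]
    · have h1 : ip (permC A (A ⧸ Y₀)) (ζ : A → ℂ) ≠ 0 := by
        refine ip_mono (le_ov (f := f) X) ?_
        rw [hbχ]
        exact_mod_cast h0
      by_contra h2
      apply hne
      refine (D.restrict h1).2 χ hχ ?_
      rw [ip_eq]
      exact right_ne_zero_of_mul h2
  · intro h1
    exact absurd (Finset.mem_univ _) h1

theorem ip_sum_zsmul {G : Type*} [Group G] [Finite G] {κ : Type*} (t : Finset κ) (a : κ → ℤ) (φ : κ → G → ℂ) (χ : G → ℂ) :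
    ip (∑ k ∈ t, a k • φ k) χ = ∑ k ∈ t, (a k : ℂ) * ip (φ k) χ := by
  classical
  induction t using Finset.induction_on with
  | empty => rw [Finset.sum_empty, Finset.sum_empty, ip_zero]
  | insert k t hk ih => rw [Finset.sum_insert hk, Finset.sum_insert hk, ip_add, ip_zsmul, ih]

/-- **Disjoint families on `S` give members of `X₀(A)` with different irreducible restrictions.** -/
theorem Dc.exists_ext (D : Dc f B Y₀) {p : ℕ} [hp : Fact p.Prime] {M : Ideal AlgInt} (hM : IsPModular p M) {ι κ : Type*}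
    (X : ι → κ → Subgroup S) (hX : ∀ i k, B ≤ X i k) (s : ι → Finset κ) (ε : ι → κ → ℤ)
    (hF : ∀ i, ∃ P : Sylow p A, ¬ (p : ℤ) ∣ ∑ k ∈ s i, ε i k * (cnt (P : Subgroup A) (A ⧸ ov f Y₀ (X i k)) : ℤ))
    (hdis : ∀ i j, i ≠ j → ∀ χ : IrrCharacter S, ip (∑ k ∈ s i, ε i k • permC S (S ⧸ X i k)) (χ : S → ℂ) = 0 ∨
      ip (∑ k ∈ s j, ε j k • permC S (S ⧸ X j k)) (χ : S → ℂ) = 0) :
    ∃ ψ : ι → IrrCharacter A, (∀ i, Mem0 p M (ψ i) ∧ IsIrrCharacter S (fun s => (ψ i : A → ℂ) (f s)) ∧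
      ip (∑ k ∈ s i, ε i k • permC S (S ⧸ X i k)) (fun s => (ψ i : A → ℂ) (f s)) ≠ 0) ∧
      ∀ i j, (∀ s : S, (ψ i : A → ℂ) (f s) = (ψ j : A → ℂ) (f s)) → i = j := by
  classical
  have key : ∀ i, ∃ χ : IrrCharacter A, Mem0 p M χ ∧ ip (permC A (A ⧸ Y₀)) (χ : A → ℂ) ≠ 0 ∧
      ip (∑ k ∈ s i, ε i k • permC S (S ⧸ X i k)) (fun s => (χ : A → ℂ) (f s)) ≠ 0 := by
    intro i
    obtain ⟨P, hP⟩ := hF i
    obtain ⟨χ, h1, h2⟩ := (FV.comb hM P (s i) (fun k => A ⧸ ov f Y₀ (X i k)) (ε i)).exists_mem0 hP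
    rw [ip_sum_zsmul] at h2
    obtain ⟨k, hk, h3⟩ := Finset.exists_ne_zero_of_sum_ne_zero h2
    have h4 : ip (permC A (A ⧸ Y₀)) (χ : A → ℂ) ≠ 0 := ip_mono (le_ov (f := f) (X i k)) (right_ne_zero_of_mul h3)
    refine ⟨χ, h1, h4, ?_⟩
    rw [ip_sum_zsmul]
    rwa [Finset.sum_congr rfl fun k _ => by rw [D.ip_ov (hX i k) h4]] at h2
  choose ψ h1 h2 h3 using key
  refine ⟨ψ, fun i => ⟨h1 i, D.irr (h2 i), h3 i⟩, fun i j hij => ?_⟩
  by_contra hne
  have e : (fun s => (ψ j : A → ℂ) (f s)) = fun s => (ψ i : A → ℂ) (f s) := funext fun s => (hij s).symm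
  rcases hdis i j hne ⟨_, D.irr (h2 i)⟩ with h4 | h4
  · exact h3 i h4
  · refine h3 j ?_
    rw [e]
    exact h4

/-- the elliptic case: one of the subgroups is `S`, the others have index divisible by `p` -/
theorem Dc.exists_ext_elliptic (D : Dc f B Y₀) {p : ℕ} [hp : Fact p.Prime] {M : Ideal AlgInt} (hM : IsPModular p M) {ι κ : Type*}
    (X : ι → κ → Subgroup S) (hX : ∀ i k, B ≤ X i k) (s : ι → Finset κ) (ε : ι → κ → ℤ) (k₀ : ι → κ)
    (h0 : ∀ i, k₀ i ∈ s i ∧ X i (k₀ i) = ⊤ ∧ ¬ (p : ℤ) ∣ ε i (k₀ i)) (hk : ∀ i, ∀ k ∈ s i, k ≠ k₀ i → p ∣ (X i k).index)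
    (hdis : ∀ i j, i ≠ j → ∀ χ : IrrCharacter S, ip (∑ k ∈ s i, ε i k • permC S (S ⧸ X i k)) (χ : S → ℂ) = 0 ∨
      ip (∑ k ∈ s j, ε j k • permC S (S ⧸ X j k)) (χ : S → ℂ) = 0) :
    ∃ ψ : ι → IrrCharacter A, (∀ i, Mem0 p M (ψ i) ∧ IsIrrCharacter S (fun s => (ψ i : A → ℂ) (f s)) ∧
      ip (∑ k ∈ s i, ε i k • permC S (S ⧸ X i k)) (fun s => (ψ i : A → ℂ) (f s)) ≠ 0) ∧
      ∀ i j, (∀ s : S, (ψ i : A → ℂ) (f s) = (ψ j : A → ℂ) (f s)) → i = j := by
  obtain ⟨P⟩ := (inferInstance : Nonempty (Sylow p A))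
  refine D.exists_ext hM X hX s ε (fun i => ⟨P, ?_⟩) hdis
  rw [Finset.sum_eq_single (k₀ i)]
  · have h1 : ov f Y₀ (X i (k₀ i)) = ⊤ := by
      rw [(h0 i).2.1, eq_top_iff, ← D.sup, sup_comm]
      unfold ov
      rw [← MonoidHom.range_eq_map]
    rw [cnt_top _ h1, Nat.cast_one, mul_one]
    exact (h0 i).2.2
  · intro k hks hne
    rw [cnt_eq_zero P (by rw [D.index (hX i k)]; exact hk i k hks hne), Nat.cast_zero, mul_zero]
  · intro h1
    exact absurd (h0 i).1 h1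

end norm

/-! ### root group data without diagram symmetries -/

section rgd

open CoxeterSystem Cfsg.Agent.ChevalleyStructure.CoxeterGeom Cfsg.Agent.Tits.Roots Cfsg.Agent.Tits.Core
  Cfsg.Agent.Tits.Exchange Cfsg.Agent.Nodes.Reps Cfsg.Agent.Nodes.BNOf Cfsg.Agent.Nodes.StabComb
  Cfsg.Agent.Nodes.Bruhat Cfsg.Agent.Nodes.OppDec Cfsg.Agent.Nodes.LeviDec Cfsg.Agent.H796.BR
  Cfsg.Agent.KFacts.RgdAut Cfsg.Agent.KFacts.RgdDiag Cfsg.Agent.KFacts.RgdRigid

variable {I W : Type*} [Fintype I] [DecidableEq I] [Group W] {Mx : CoxeterMatrix I} {cs : CoxeterSystem Mx W}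
  {C : I → I → ℤ} {h : IsCartan Mx C} {r : ℕ} {S : Type u} [Group S] {T : Subgroup S} {n : I → S}
  {X : (I → ℤ) → Subgroup S}

/-- **The Borel subgroup in an overgroup**, no diagram symmetries. -/
theorem exists_Dc [Finite S] [hr : Fact r.Prime] (R : RGD cs h r T n X) [Finite W] (hG1 : RGD.Sup X {x | IsRoot cs h x} = ⊤)
    (hone : ∀ σ : Equiv.Perm I, (∀ i j, Mx (σ i) (σ j) = Mx i j) → σ = 1) {A : Type u} [Group A] [Finite A] (f : S →* A)
    (hf : Function.Injective f) (hn : f.range.Normal) : ∃ Y₀ : Subgroup A, Dc f (RGD.B cs h T X) Y₀ := by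
  have hG := GG_eq_top (T := T) hG1
  have hB : Subgroup.normalizer (RGD.Sup X (RGD.Pos cs h) : Set S) = RGD.B cs h T X := normalizer_U' R hG
  have hUi : ¬ r ∣ (RGD.Sup X (RGD.Pos cs h)).index := by
    have := KFacts.RgdSyl.not_dvd_relIndex R
    rwa [hG, Subgroup.relIndex_top_right] at this
  obtain ⟨Y, h1, h2, h3⟩ := H326.EB.exists_sup (r := r) f hf hn _ R.isPGroup_Upos hUi (fun α hα s => by
    rw [hB]
    exact H326.EB.cell_fix R hG1 hone hα s)
  rw [hB] at h1 h3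
  exact ⟨Y, hf, hn, h1, h2, h3⟩

/-- **Families of rank-selected characters, elliptic case, one overgroup.** -/
theorem Dc.family {S : Type v} [Group S] {T : Subgroup S} {n : I → S} {X : (I → ℤ) → Subgroup S} [Finite S] {p : ℕ}
    [hp : Fact p.Prime] {M : Ideal AlgInt} (R : RGD cs h r T n X) [Finite W] (hG : GG cs h T X = ⊤)
    {A : Type u} [Group A] [Finite A] {f : S →* A} {Y₀ : Subgroup A} (D : Dc f (RGD.B cs h T X) Y₀)
    (hM : IsPModular p M) {N : ℕ} (F : Fin N → Finset I) (hF : ∀ i, ∀ k ∈ F i, p ∣ (PJ cs h T X ({k}ᶜ : Set I)).index)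
    (ho : ∀ i j, i ≠ j → (∀ w, ¬ (dL cs w ⊆ F i ∧ F j ⊆ dR cs w)) ∨ ∀ w, ¬ (dL cs w ⊆ F j ∧ F i ⊆ dR cs w)) :
    ∃ ψ : Fin N → IrrCharacter A, (∀ i, Mem0 p M (ψ i) ∧ IsIrrCharacter S (fun s => (ψ i : A → ℂ) (f s)) ∧
      ip (betaPJ cs h T X (F i)) (fun s => (ψ i : A → ℂ) (f s)) ≠ 0) ∧
      ∀ i j, (∀ s : S, (ψ i : A → ℂ) (f s) = (ψ j : A → ℂ) (f s)) → i = j := by
  have := Fintype.ofFinite S
  have e0 : ∀ i : Fin N, PJ cs h T X (((F i)ᶜ ∪ F i : Finset I) : Set I) = ⊤ := by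
    intro i
    have e : (((F i)ᶜ ∪ F i : Finset I) : Set I) = Set.univ := by
      rw [Finset.union_comm, Finset.union_compl, Finset.coe_univ]
    rw [e]
    exact PJ_top R hG
  have e1 : ∀ i : Fin N, ¬ (p : ℤ) ∣ (-1 : ℤ) ^ (F i).card := by
    intro i h1
    have h2 := (Int.prime_iff_natAbs_prime.2 (by simpa using hp.out) : Prime (p : ℤ)).dvd_of_dvd_pow h1
    have h3 := Int.natAbs_dvd_natAbs.2 h2
    simp only [Int.natAbs_natCast, Int.natAbs_neg, Int.natAbs_one] at h3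
    exact hp.out.one_lt.ne' (Nat.dvd_one.1 h3)
  have e2 : ∀ i : Fin N, ∀ L ∈ (F i).powerset, L ≠ F i → p ∣ (PJ cs h T X (((F i)ᶜ ∪ L : Finset I) : Set I)).index := by
    intro i L hL hne
    obtain ⟨k, hkS, hkL⟩ : ∃ k ∈ F i, k ∉ L := by
      by_contra hcon
      push Not at hcon
      exact hne (Finset.Subset.antisymm (Finset.mem_powerset.1 hL) hcon)
    refine (hF i k hkS).trans (Subgroup.index_dvd_of_le (PJ_mono' R hG ?_))
    intro j hj
    rw [Set.mem_compl_iff, Set.mem_singleton_iff]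
    rintro rfl
    rw [Finset.mem_coe, Finset.mem_union, Finset.mem_compl] at hj
    rcases hj with hj | hj
    · exact hj hkS
    · exact hkL hj
  have e3 : ∀ i j, i ≠ j → ∀ χ : IrrCharacter S, ip (∑ L ∈ (F i).powerset, ((-1 : ℤ) ^ L.card) •
      permC S (S ⧸ PJ cs h T X (((F i)ᶜ ∪ L : Finset I) : Set I))) (χ : S → ℂ) = 0 ∨
      ip (∑ L ∈ (F j).powerset, ((-1 : ℤ) ^ L.card) •
      permC S (S ⧸ PJ cs h T X (((F j)ᶜ ∪ L : Finset I) : Set I))) (χ : S → ℂ) = 0 := by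
    intro i j hij χ
    rw [← betaPJ_eq_comb, ← betaPJ_eq_comb, ip_eq, ip_eq]
    by_cases h1 : classInner (betaPJ cs h T X (F i)) (χ : S → ℂ) = 0
    · exact Or.inl h1
    · right
      rcases ho i j hij with h2 | h2
      · exact beta_disjoint R hG h2 χ.2 h1
      · by_contra h3
        exact h1 (beta_disjoint R hG h2 χ.2 h3)
  obtain ⟨ψ, h1, h2⟩ := D.exists_ext_elliptic hM (fun (i : Fin N) (L : Finset I) => PJ cs h T X (((F i)ᶜ ∪ L : Finset I) : Set I))
    (fun _ _ => B_le_PJ) (fun i => (F i).powerset) (fun _ L => (-1 : ℤ) ^ L.card) F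
    (fun i => ⟨Finset.mem_powerset_self _, e0 i, e1 i⟩) e2 e3
  exact ⟨ψ, fun i => ⟨(h1 i).1, (h1 i).2.1, by rw [betaPJ_eq_comb]; exact (h1 i).2.2⟩, h2⟩

/-- **Families of rank-selected characters, elliptic case, overgroups.** -/
theorem extY_family [Finite S] [hr : Fact r.Prime] {p : ℕ} [hp : Fact p.Prime] {M : Ideal AlgInt} (R : RGD cs h r T n X)
    [Finite W] (hG1 : RGD.Sup X {x | IsRoot cs h x} = ⊤) (hone : ∀ σ : Equiv.Perm I, (∀ i j, Mx (σ i) (σ j) = Mx i j) → σ = 1)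
    (hM : IsPModular p M) {N : ℕ} (F : Fin N → Finset I) (hF : ∀ i, ∀ k ∈ F i, p ∣ (PJ cs h T X ({k}ᶜ : Set I)).index)
    (ho : ∀ i j, i ≠ j → (∀ w, ¬ (dL cs w ⊆ F i ∧ F j ⊆ dR cs w)) ∨ ∀ w, ¬ (dL cs w ⊆ F j ∧ F i ⊆ dR cs w)) :
    ExtY p M S N := by
  intro A _ _ f hf hn _ _
  obtain ⟨Y₀, D⟩ := exists_Dc R hG1 hone f hf hn
  obtain ⟨ψ, h1, h2⟩ := D.family R (GG_eq_top (T := T) hG1) hM F hF ho
  exact ⟨ψ, fun i => ⟨(h1 i).1, (h1 i).2.1⟩, h2⟩

end rgd

/-! ### type `B_m` -/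

section typeB

open CoxeterSystem Cfsg.Agent.ChevalleyStructure.CoxeterGeom Cfsg.Agent.Tits.Roots Cfsg.Agent.Tits.Core
  Cfsg.Agent.Tits.Exchange Cfsg.Agent.Nodes.Reps Cfsg.Agent.Nodes.BNOf Cfsg.Agent.Nodes.StabComb
  Cfsg.Agent.Nodes.Bruhat Cfsg.Agent.Nodes.OppDec Cfsg.Agent.Nodes.LeviDec Cfsg.Agent.H796.BR
  Cfsg.Agent.KFacts.RgdAut Cfsg.Agent.KFacts.RgdDiag Cfsg.Agent.KFacts.RgdRigid

variable {m : ℕ} {W : Type*} [Group W] {cs : CoxeterSystem (CoxeterMatrix.B m) W}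
  {C : Fin m → Fin m → ℤ} {h : IsCartan (CoxeterMatrix.B m) C} {r : ℕ} {S : Type u} [Group S] {T : Subgroup S} {n : Fin m → S}
  {X : (Fin m → ℤ) → Subgroup S}

/-- **Type `B_m`, `m ≥ 3`**: the Borel subgroup in an overgroup. -/
theorem exists_Dc_B [Finite S] [hr : Fact r.Prime] (R : RGD cs h r T n X) [Finite W]
    (hG1 : RGD.Sup X {x | IsRoot cs h x} = ⊤) (hm : 3 ≤ m) {A : Type u} [Group A] [Finite A] (f : S →* A)
    (hf : Function.Injective f) (hn : f.range.Normal) : ∃ Y₀ : Subgroup A, Dc f (RGD.B cs h T X) Y₀ :=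
  exists_Dc R hG1 (fun _ hσ => H461.CoxB.perm_eq_one hm hσ) f hf hn

/-- **Type `B_m`, `m ≥ 3`**: if `p` divides the indices of the maximal parabolic subgroups of the nodes `k ≥ v`, every `A` has
`m - v + 1` members of `X₀(A)` with irreducible and different restrictions. -/
theorem extY_B [Finite S] [hr : Fact r.Prime] {p : ℕ} [hp : Fact p.Prime] {M : Ideal AlgInt} (R : RGD cs h r T n X)
    [Finite W] (hG1 : RGD.Sup X {x | IsRoot cs h x} = ⊤) (hm : 3 ≤ m) (hM : IsPModular p M) {v : ℕ} (hv : v ≤ m)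
    (hd : ∀ k : Fin m, v ≤ k → p ∣ (PJ cs h T X ({k}ᶜ : Set (Fin m))).index) : ExtY p M S (m - v + 1) := by
  refine extY_family R hG1 (fun _ hσ => H461.CoxB.perm_eq_one hm hσ) hM (fun i => ge (v + i)) (fun i k hk => hd k (by
    rw [mem_ge] at hk
    omega)) fun i j hij => ?_
  have hne : (i : ℕ) ≠ j := fun e => hij (Fin.ext e)
  have hi := i.2
  have hj := j.2
  rcases lt_or_gt_of_ne hne with h2 | h2
  · exact Or.inr (not_C cs (by omega) (by omega))
  · exact Or.inl (not_C cs (by omega) (by omega))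

end typeB

end Cfsg.Agent.H967.XZ
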