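import Cfsg.Agent.H967.XZ.BridgeD
import Cfsg.Agent.H236.XZ.Into
import Cfsg.Agent.H236.XZ.CellsD

/-!
# Type `D_{n+2}`: the double cosets and the chains (helper967, for S4791, S4927)

`n + 2 = v + e w`. `J₁ = JA ∪ JTD` (`JTD` the nodes of the tail `D_v`, empty for `v ≤ 1`).

* `dcs L K P` : the double cosets of `L`, `K` of the elements with `P`;
* `card_D` : the number of the classes of helper796's `DC` in type `D` for the nodes `TD T`, `T` without the last node, is the
  number of the classes in `W(B)`, the left group being the even elements of `W_{J₁}`;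
* `card_D_add` : the two families of maximal subspaces together;
* `cntDV_lt`, `cntDV_add`, `cntDV_two` (`0 < v`), `cntD0_lt`, `cntD0_add`, `cntD0_two` (`v = 0`) : the numbers of chains.
-/

set_option autoImplicit false
set_option linter.unusedSectionVars false

namespace Cfsg.Agent.H967.XZ

open Cfsg Cfsg.Agent.ChevalleyStructure.CoxeterGeom Cfsg.Agent.Tits.Roots Cfsg.Agent.Tits.Core Cfsg.Agent.H215.WB
open CoxeterSystem
open Cfsg.Agent.H493.CC (par)
open Cfsg.Agent.H796.XZ (DC)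

/-- the double cosets of `L`, `K` of the elements with `P` -/
def dcs {G : Type*} [Group G] (L K : Subgroup G) (P : G → Prop) : Setoid {x : G // P x} where
  r x y := ∃ a ∈ L, ∃ b ∈ K, y.1 = a * x.1 * b
  iseqv :=
    { refl := fun x => ⟨1, one_mem _, 1, one_mem _, by rw [one_mul, mul_one]⟩
      symm := by
        rintro x y ⟨u, hu, v, hv, e⟩
        exact ⟨u⁻¹, inv_mem hu, v⁻¹, inv_mem hv, by rw [e]; group⟩
      trans := by
        rintro x y z ⟨u, hu, v, hv, e⟩ ⟨u', hu', v', hv', e'⟩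
        exact ⟨u' * u, mul_mem hu' hu, v * v', mul_mem hv hv', by rw [e', e]; group⟩ }

theorem dcs_eq {G : Type*} [Group G] {L K : Subgroup G} {P : G → Prop} {x y : {x : G // P x}} :
    Quotient.mk (dcs L K P) x = Quotient.mk (dcs L K P) y ↔ ∃ a ∈ L, ∃ b ∈ K, y.1 = a * x.1 * b := Quotient.eq

variable {n : ℕ} {W WB : Type*} [Group W] [Group WB] (csD : CoxeterSystem (Nodes.TypeD.M n) W)
  (csB : CoxeterSystem (CoxeterMatrix.B (n + 2)) WB)

/-- the nodes of the tail -/
def JTD (n e w v : ℕ) : Set (Fin (n + 2)) := {k | e * w ≤ (k : ℕ) ∧ 2 ≤ v}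

/-- `J₁` in type `B` -/
def JB (n e w : ℕ) : Set (Fin (n + 2)) := {k | e * w ≤ (k : ℕ) ∨ ¬ e ∣ (k : ℕ) + 1}

/-- good elements of type `B` -/
def BG (e w : ℕ) (T : Set (Fin (n + 2))) (x : WB) : Prop :=
  ∀ j : Fin (n + 2), (j : ℕ) < e * w → ¬ e ∣ (j : ℕ) + 1 → ∀ t ∈ T, rep csB (Nodes.TypeC.isCartan (n + 2)) x⁻¹ (sr j) t = 0

/-- good elements of type `D` -/
def DG (e w : ℕ) (U : Set (Fin (n + 2))) (x : W) : Prop :=
  ∀ j ∈ H796.XZ.JA (n + 2) e w, ∀ t, t ∉ Uᶜ → rep csD (Nodes.TypeD.isCartan n) x⁻¹ (sr j) t = 0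

/-- the even elements of `W_{J₁}` -/
noncomputable def LB (e w : ℕ) : Subgroup WB :=
  Subgroup.closure (csB.simple '' JB n e w) ⊓ ((par : Wb (Fin (n + 2)) →* ℤˣ).comp (homB csB)).ker

theorem mem_LB {e w : ℕ} {a : WB} : a ∈ LB csB e w ↔ a ∈ Subgroup.closure (csB.simple '' JB n e w) ∧ par (homB csB a) = 1 :=
  Iff.rfl

/-- the number of classes of `DC` -/
theorem card_DC (e w v : ℕ) (U : Set (Fin (n + 2))) :
    Nat.card (Quot (DC csD (Nodes.TypeD.isCartan n) (H796.XZ.JA (n + 2) e w) (JTD n e w v) Uᶜ)) =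
      Nat.card (Quotient (dcs (WJ csD (H796.XZ.JA (n + 2) e w ∪ JTD n e w v)) (WJ csD Uᶜ) (DG csD e w U))) :=
  Cfsg.Agent.H236.XZ.card_quot_DC_of csD (Nodes.TypeD.isCartan n) (JA := H796.XZ.JA (n + 2) e w) (JT := JTD n e w v) (K := Uᶜ)
    (Quotient.mk (dcs (WJ csD (H796.XZ.JA (n + 2) e w ∪ JTD n e w v)) (WJ csD Uᶜ) (DG csD e w U))) Quotient.mk_surjective
    fun _ _ => dcs_eq

theorem TD_T0 {e w v : ℕ} (hn : v + e * w = n + 2) :
    (TD {k : Fin (n + 2) | (k : ℕ) < e * w ∧ e ∣ (k : ℕ) + 1})ᶜ = H796.XZ.JA (n + 2) e w ∪ JTD n e w v := by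
  have hd : ∀ k : ℕ, k + 1 = e * w → e ∣ k + 1 := fun k h => h ▸ Dvd.intro w rfl
  ext k
  have hk := k.2
  simp only [TD, H796.XZ.JA, JTD, Set.mem_compl_iff, Set.mem_union, Set.mem_ofPred_eq, val_lst, val_nlst]
  constructor
  · intro h
    push Not at h
    obtain ⟨h1, h2, h3⟩ := h
    by_cases h4 : (k : ℕ) + 1 < e * w ∧ ¬ e ∣ (k : ℕ) + 1
    · exact Or.inl h4
    · right
      by_contra h5
      have h6 : (k : ℕ) < e * w ∨ v < 2 := by omega
      -- `v ≤ 1` or `k < e w`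
      by_cases h7 : (k : ℕ) < e * w
      · have h8 : e ∣ (k : ℕ) + 1 := by
          by_contra h8
          apply h4
          refine ⟨?_, h8⟩
          rcases lt_or_eq_of_le (Nat.succ_le_of_lt h7) with h9 | h9
          · exact h9
          · exact absurd (hd _ h9) h8
        rcases lt_or_ge (k : ℕ) n with h9 | h9
        · exact h1 h9 h7 h8
        · rcases eq_or_lt_of_le h9 with h10 | h10
          · exact h2 h9 (by omega) (by rw [h10]; exact h8)
          · exact h3 (by omega) (by omega) (by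
              have : (k : ℕ) = n + 1 := by omega
              rw [← this]
              exact h8)
      · -- `v ≤ 1`, `e w ≤ k`
        have h8 : v < 2 := by omega
        have h9 : v = 1 := by omega
        have h10 : n + 1 = e * w := by omega
        exact h2 (by omega) (by omega) (hd n h10)
  · rintro (⟨h1, h2⟩ | ⟨h1, h2⟩) h
    · rcases h with ⟨h3, h4, h5⟩ | ⟨h3, h4, h5⟩ | ⟨h3, h4, h5⟩
      · exact h2 h5
      · rcases eq_or_lt_of_le h3 with h6 | h6
        · exact h2 (by rw [← h6]; exact h5)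
        · omega
      · rw [h3] at h2
        exact h2 h5
    · rcases h with ⟨h3, h4, h5⟩ | ⟨h3, h4, h5⟩ | ⟨h3, h4, h5⟩
      · omega
      · omega
      · omega

theorem JB_eq {e w : ℕ} : JB n e w = {k : Fin (n + 2) | (k : ℕ) < e * w ∧ e ∣ (k : ℕ) + 1}ᶜ := by
  ext k
  simp only [JB, Set.mem_compl_iff, Set.mem_ofPred_eq]
  constructor
  · rintro (h | h) ⟨h1, h2⟩
    · omega
    · exact h h2
  · intro h
    by_cases h1 : e * w ≤ (k : ℕ)
    · exact Or.inl h1
    · exact Or.inr fun h2 => h ⟨by omega, h2⟩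

/-- the left groups -/
theorem em_mem_LB {e w v : ℕ} (hn : v + e * w = n + 2) {y : W} :
    em csD csB y ∈ LB csB e w ↔ y ∈ WJ csD (H796.XZ.JA (n + 2) e w ∪ JTD n e w v) := by
  rw [mem_LB, JB_eq, em_mem_iff csD csB, TD_T0 hn]
  exact ⟨fun h => h.1, fun h => ⟨h, par_em csD csB y⟩⟩

theorem exists_em_LB {e w v : ℕ} (hn : v + e * w = n + 2) {a : WB} (ha : a ∈ LB csB e w) :
    ∃ y ∈ WJ csD (H796.XZ.JA (n + 2) e w ∪ JTD n e w v), em csD csB y = a := by
  obtain ⟨y, rfl⟩ := exists_em csD csB ((mem_LB csB).1 ha).2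
  exact ⟨y, (em_mem_LB csD csB hn).1 ha, rfl⟩

theorem lt_of_JA {e w v : ℕ} (hn : v + e * w = n + 2) {j : Fin (n + 2)} (hj : j ∈ H796.XZ.JA (n + 2) e w) :
    (j : ℕ) + 1 < n + 2 := lt_of_lt_of_le hj.1 (by omega)

theorem DG_iff {e w v : ℕ} (hn : v + e * w = n + 2) {T : Set (Fin (n + 2))} {x : W} :
    DG csD e w (TD T) x ↔ BG csB e w T (em csD csB x) := by
  have hd : ∀ k : ℕ, k + 1 = e * w → e ∣ k + 1 := fun k h => h ▸ Dvd.intro w rfl
  constructor
  · intro h j hj1 hj2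
    have hj3 : (j : ℕ) + 1 < e * w := by
      rcases lt_or_eq_of_le (Nat.succ_le_of_lt hj1) with h9 | h9
      · exact h9
      · exact absurd (hd _ h9) hj2
    exact (good_em_iff csD csB x (by omega)).1 fun t ht => h j ⟨hj3, hj2⟩ t (not_not.2 ht)
  · intro h j hj t ht
    exact (good_em_iff csD csB x (lt_of_JA hn hj)).2 (h j (by have := hj.1; omega) hj.2) t (not_not.1 ht)

theorem DG_tau_iff {e w v : ℕ} (hn : v + e * w = n + 2) {T : Set (Fin (n + 2))} (hT : ∀ t ∈ T, (t : ℕ) < n) {x : W} :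
    DG csD e w (insert (nlst n) T) x ↔ BG csB e w (insert (lst n) T) (em csD csB x * tau csB) := by
  have hd : ∀ k : ℕ, k + 1 = e * w → e ∣ k + 1 := fun k h => h ▸ Dvd.intro w rfl
  constructor
  · intro h j hj1 hj2
    have hj3 : (j : ℕ) + 1 < e * w := by
      rcases lt_or_eq_of_le (Nat.succ_le_of_lt hj1) with h9 | h9
      · exact h9
      · exact absurd (hd _ h9) hj2
    exact (good_tau_iff csD csB hT x (by omega)).1 fun t ht => h j ⟨hj3, hj2⟩ t (not_not.2 ht)
  · intro h j hj t ht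
    exact (good_tau_iff csD csB hT x (lt_of_JA hn hj)).2 (h j (by have := hj.1; omega) hj.2) t (not_not.1 ht)

theorem par_mul_tau {w : WB} (hw : par (homB csB w) ≠ 1) : par (homB csB (w * tau csB)) = 1 := by
  rw [map_mul, map_mul, par_tau, (Int.units_eq_one_or _).resolve_left hw]
  decide

/-- equal double cosets in type `D` and in type `B` -/
theorem dcs_em {e w v : ℕ} (hn : v + e * w = n + 2) {T : Set (Fin (n + 2))} {x y : W} :
    (∃ a ∈ LB csB e w, ∃ b ∈ Subgroup.closure (csB.simple '' Tᶜ), em csD csB y = a * em csD csB x * b) ↔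
      ∃ a ∈ WJ csD (H796.XZ.JA (n + 2) e w ∪ JTD n e w v), ∃ b ∈ WJ csD (TD T)ᶜ, y = a * x * b := by
  constructor
  · rintro ⟨a, ha, b, hb, h⟩
    obtain ⟨a', ha', rfl⟩ := exists_em_LB csD csB hn ha
    have h1 : b = em csD csB ((a' * x)⁻¹ * y) := by
      rw [map_mul, map_inv, h, map_mul]
      group
    rw [h1] at hb
    exact ⟨a', ha', _, (em_mem_iff csD csB).1 hb, by group⟩
  · rintro ⟨a, ha, b, hb, rfl⟩
    exact ⟨_, (em_mem_LB csD csB hn).2 ha, _, (em_mem_iff csD csB).2 hb, by rw [map_mul, map_mul]⟩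

/-- **The nodes `TD T`, `T` without the last node.** -/
theorem card_D {e w v : ℕ} (hn : v + e * w = n + 2) {T : Set (Fin (n + 2))} (hT : lst n ∉ T) :
    Nat.card (Quot (DC csD (Nodes.TypeD.isCartan n) (H796.XZ.JA (n + 2) e w) (JTD n e w v) (TD T)ᶜ)) =
      Nat.card (Quotient (dcs (LB csB e w) (Subgroup.closure (csB.simple '' Tᶜ)) (BG csB e w T))) := by
  rw [card_DC]
  refine Cfsg.Agent.H236.XZ.card_eq_of_kernel (Quotient.mk (dcs (WJ csD (H796.XZ.JA (n + 2) e w ∪ JTD n e w v)) (WJ csD (TD T)ᶜ)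
    (DG csD e w (TD T))))
    (fun x => Quotient.mk (dcs (LB csB e w) (Subgroup.closure (csB.simple '' Tᶜ)) (BG csB e w T))
      ⟨em csD csB x.1, (DG_iff csD csB hn).1 x.2⟩) Quotient.mk_surjective ?_ fun x y => ?_
  · intro c
    obtain ⟨⟨w', hw'⟩, rfl⟩ := Quotient.mk_surjective c
    have hτ : tau csB ∈ Subgroup.closure (csB.simple '' Tᶜ) := Subgroup.subset_closure ⟨lst n, hT, rfl⟩
    by_cases hp : par (homB csB w') = 1
    · obtain ⟨x, rfl⟩ := exists_em csD csB hp
      exact ⟨⟨x, (DG_iff csD csB hn).2 hw'⟩, rfl⟩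
    · obtain ⟨x, hx⟩ := exists_em csD csB (par_mul_tau csB hp)
      have hg : BG csB e w T (em csD csB x) := by
        rw [hx]
        intro j hj1 hj2 t ht
        have hj3 : (j : ℕ) + 1 < n + 2 := by
          rcases lt_or_eq_of_le (Nat.succ_le_of_lt hj1) with h9 | h9
          · exact lt_of_lt_of_le h9 (by omega)
          · exact absurd (Dvd.intro w h9.symm) hj2
        rw [coef_tau csB hj3, if_neg (fun h : t = lst n => hT (h ▸ ht))]
        exact hw' j hj1 hj2 t ht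
      refine ⟨⟨x, (DG_iff csD csB hn).2 hg⟩, dcs_eq.2 ⟨1, one_mem _, tau csB, hτ, ?_⟩⟩
      change w' = 1 * em csD csB x * tau csB
      rw [hx, one_mul, mul_assoc, tau_mul_tau, mul_one]
  · rw [dcs_eq, dcs_eq]
    exact (dcs_em csD csB hn).symm

theorem par_closure {S : Set (Fin (n + 2))} (hS : ∀ k ∈ S, (k : ℕ) + 1 < n + 2) {b : WB}
    (hb : b ∈ Subgroup.closure (csB.simple '' S)) : par (homB csB b) = 1 := by
  rw [← map_em_closure (Nodes.TypeD.M n).toCoxeterSystem csB hS] at hb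
  obtain ⟨y, -, rfl⟩ := hb
  exact par_em _ csB y

/-- **The two families of maximal subspaces.** -/
theorem card_D_add {e w v : ℕ} (hn : v + e * w = n + 2) {T : Set (Fin (n + 2))} (hT : ∀ t ∈ T, (t : ℕ) < n)
    [Finite W] :
    Nat.card (Quot (DC csD (Nodes.TypeD.isCartan n) (H796.XZ.JA (n + 2) e w) (JTD n e w v) (insert (nlst n) T)ᶜ)) +
      Nat.card (Quot (DC csD (Nodes.TypeD.isCartan n) (H796.XZ.JA (n + 2) e w) (JTD n e w v) (insert (lst n) T)ᶜ)) =
      Nat.card (Quotient (dcs (LB csB e w) (Subgroup.closure (csB.simple '' (insert (lst n) T)ᶜ))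
        (BG csB e w (insert (lst n) T)))) := by
  have hTD : TD (insert (lst n) T) = insert (lst n) T := by
    ext k
    have hk := k.2
    constructor
    · rintro (⟨h1, h2⟩ | ⟨h1, h2⟩ | ⟨h1, h2⟩)
      · exact h2
      · rcases Set.mem_insert_iff.1 h2 with h3 | h3
        · exact absurd h3 nlst_ne_lst
        · have := hT _ h3
          rw [val_nlst] at this
          omega
      · exact Or.inl (Fin.ext h1)
    · rintro (h | h)
      · exact Or.inr (Or.inr ⟨by rw [h, val_lst], Or.inl rfl⟩)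
      · exact Or.inl ⟨hT k h, Or.inr h⟩
  have hlt : ∀ k ∈ (insert (lst n) T)ᶜ, (k : ℕ) + 1 < n + 2 := by
    intro k hk
    by_contra h
    exact hk (Or.inl (eq_lst h))
  have e1 : (insert (lst n) T)ᶜ = insert (nlst n) {k : Fin (n + 2) | (k : ℕ) < n ∧ k ∉ T} := by
    ext k
    have hk := k.2
    simp only [Set.mem_compl_iff, Set.mem_insert_iff, not_or, Set.mem_ofPred_eq]
    constructor
    · rintro ⟨h1, h2⟩
      rcases lt_or_ge (k : ℕ) n with h3 | h3
      · exact Or.inr ⟨h3, h2⟩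
      · left
        refine Fin.ext ?_
        rw [val_nlst]
        by_contra h4
        exact h1 (Fin.ext (by rw [val_lst]; omega))
    · rintro (rfl | ⟨h1, h2⟩)
      · exact ⟨nlst_ne_lst, fun h => by have := hT _ h; rw [val_nlst] at this; omega⟩
      · exact ⟨fun h => by rw [h, val_lst] at h1; omega, h2⟩
  have e2 : (insert (nlst n) T)ᶜ = insert (lst n) {k : Fin (n + 2) | (k : ℕ) < n ∧ k ∉ T} := by
    ext k
    have hk := k.2
    simp only [Set.mem_compl_iff, Set.mem_insert_iff, not_or, Set.mem_ofPred_eq]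
    constructor
    · rintro ⟨h1, h2⟩
      rcases lt_or_ge (k : ℕ) n with h3 | h3
      · exact Or.inr ⟨h3, h2⟩
      · left
        refine Fin.ext ?_
        rw [val_lst]
        by_contra h4
        exact h1 (Fin.ext (by rw [val_nlst]; omega))
    · rintro (rfl | ⟨h1, h2⟩)
      · exact ⟨nlst_ne_lst.symm, fun h => by have := hT _ h; rw [val_lst] at this; omega⟩
      · exact ⟨fun h => by rw [h, val_nlst] at h1; omega, h2⟩
  rw [card_DC, card_DC]
  set s1 := dcs (WJ csD (H796.XZ.JA (n + 2) e w ∪ JTD n e w v)) (WJ csD (insert (nlst n) T)ᶜ) (DG csD e w (insert (nlst n) T))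
    with hs1
  set s2 := dcs (WJ csD (H796.XZ.JA (n + 2) e w ∪ JTD n e w v)) (WJ csD (insert (lst n) T)ᶜ) (DG csD e w (insert (lst n) T))
    with hs2
  rw [← Nat.card_sum]
  refine Cfsg.Agent.H236.XZ.card_eq_of_kernel
    (Sum.map (Quotient.mk s1) (Quotient.mk s2))
    (Sum.elim (fun x => Quotient.mk (dcs (LB csB e w) (Subgroup.closure (csB.simple '' (insert (lst n) T)ᶜ))
        (BG csB e w (insert (lst n) T))) ⟨em csD csB x.1 * tau csB, (DG_tau_iff csD csB hn hT).1 x.2⟩)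
      (fun x => Quotient.mk (dcs (LB csB e w) (Subgroup.closure (csB.simple '' (insert (lst n) T)ᶜ))
        (BG csB e w (insert (lst n) T))) ⟨em csD csB x.1, (DG_iff csD csB hn).1 (by rw [hTD]; exact x.2)⟩))
    (Function.Surjective.sumMap Quotient.mk_surjective Quotient.mk_surjective) ?_ ?_
  · intro c
    obtain ⟨⟨w', hw'⟩, rfl⟩ := Quotient.mk_surjective c
    by_cases hp : par (homB csB w') = 1
    · obtain ⟨x, rfl⟩ := exists_em csD csB hp
      exact ⟨Sum.inr ⟨x, by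
        have := (DG_iff csD csB hn (T := insert (lst n) T)).2 hw'
        rwa [hTD] at this⟩, rfl⟩
    · obtain ⟨x, hx⟩ := exists_em csD csB (par_mul_tau csB hp)
      have hw2 : em csD csB x * tau csB = w' := by
        rw [hx, mul_assoc, tau_mul_tau, mul_one]
      refine ⟨Sum.inl ⟨x, (DG_tau_iff csD csB hn hT).2 (by rw [hw2]; exact hw')⟩, ?_⟩
      rw [Sum.elim_inl]
      congr 1
      exact Subtype.ext hw2
  · have hodd : ∀ x y : W, ¬ ∃ a ∈ LB csB e w, ∃ b ∈ Subgroup.closure (csB.simple '' (insert (lst n) T)ᶜ),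
        em csD csB y = a * (em csD csB x * tau csB) * b := by
      rintro x y ⟨a, ha, b, hb, h⟩
      have h1 := congrArg (fun z => par (homB csB z)) h
      simp only [map_mul] at h1
      rw [par_em, par_em, ((mem_LB csB).1 ha).2, par_tau, par_closure csB hlt hb] at h1
      exact absurd h1 (by decide)
    have hodd' : ∀ x y : W, ¬ ∃ a ∈ LB csB e w, ∃ b ∈ Subgroup.closure (csB.simple '' (insert (lst n) T)ᶜ),
        em csD csB y * tau csB = a * em csD csB x * b := by
      rintro x y ⟨a, ha, b, hb, h⟩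
      have h1 := congrArg (fun z => par (homB csB z)) h
      simp only [map_mul] at h1
      rw [par_em, par_em, ((mem_LB csB).1 ha).2, par_tau, par_closure csB hlt hb] at h1
      exact absurd h1 (by decide)
    have hpar : ∀ x y : W, (∃ a ∈ LB csB e w, ∃ b ∈ Subgroup.closure (csB.simple '' (insert (lst n) T)ᶜ),
        em csD csB y * tau csB = a * (em csD csB x * tau csB) * b) ↔
        ∃ a ∈ WJ csD (H796.XZ.JA (n + 2) e w ∪ JTD n e w v), ∃ b ∈ WJ csD (insert (nlst n) T)ᶜ, y = a * x * b := by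
      intro x y
      constructor
      · rintro ⟨a, ha, b, hb, h⟩
        obtain ⟨a', ha', rfl⟩ := exists_em_LB csD csB hn ha
        have h1 : tau csB * b * (tau csB)⁻¹ ∈ (Subgroup.closure (csB.simple '' (insert (nlst n)
            {k : Fin (n + 2) | (k : ℕ) < n ∧ k ∉ T}))).map (MulAut.conj (tau csB)).toMonoidHom := by
          rw [← e1]
          exact ⟨b, hb, rfl⟩
        rw [← map_em_closure_tau csD csB (fun k hk => hk.1), ← e2] at h1
        obtain ⟨b', hb', h2⟩ := h1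
        refine ⟨a', ha', b', hb', em_injective csD csB ?_⟩
        rw [map_mul, map_mul, h2]
        calc em csD csB y = (em csD csB y * tau csB) * (tau csB)⁻¹ := by group
          _ = _ := by rw [h]; group
      · rintro ⟨a, ha, b, hb, rfl⟩
        have h1 : em csD csB b ∈ (Subgroup.closure (csD.simple '' (insert (nlst n) T)ᶜ)).map (em csD csB) := ⟨b, hb, rfl⟩
        rw [e2, map_em_closure_tau csD csB (fun k hk => hk.1), ← e1] at h1
        obtain ⟨b', hb', h2⟩ := h1
        have h3 : tau csB * b' * (tau csB)⁻¹ = em csD csB b := h2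
        refine ⟨_, (em_mem_LB csD csB hn).2 ha, b', hb', ?_⟩
        rw [map_mul, map_mul, ← h3]
        group
    rintro (x | x) (y | y)
    · rw [Sum.map_inl, Sum.map_inl, Sum.elim_inl, Sum.elim_inl, dcs_eq, hpar]
      exact ⟨fun h => dcs_eq.1 (Sum.inl_injective h), fun h => congrArg Sum.inl (dcs_eq.2 h)⟩
    · rw [Sum.map_inl, Sum.map_inr, Sum.elim_inl, Sum.elim_inr, dcs_eq]
      exact ⟨fun h => absurd h (by simp), fun h => absurd h (hodd x.1 y.1)⟩
    · rw [Sum.map_inl, Sum.map_inr, Sum.elim_inl, Sum.elim_inr, dcs_eq]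
      exact ⟨fun h => absurd h (by simp), fun h => absurd h (hodd' x.1 y.1)⟩
    · rw [Sum.map_inr, Sum.map_inr, Sum.elim_inr, Sum.elim_inr, dcs_eq]
      change _ ↔ ∃ a ∈ LB csB e w, ∃ b ∈ Subgroup.closure (csB.simple '' (insert (lst n) T)ᶜ),
        em csD csB y.1 = a * em csD csB x.1 * b
      rw [dcs_em csD csB hn, hTD]
      exact ⟨fun h => dcs_eq.1 (Sum.inr_injective h), fun h => congrArg Sum.inr (dcs_eq.2 h)⟩

/-! ### the numbers of chains -/

open Cfsg.Agent.H636.LIN (Sg QD nch ddm)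

theorem TD_of_lt {T : Set (Fin (n + 2))} (hT : ∀ t ∈ T, (t : ℕ) < n) : TD T = T := by
  ext k
  constructor
  · rintro (⟨h1, h2⟩ | ⟨h1, h2⟩ | ⟨h1, h2⟩)
    · exact h2
    · have := hT _ h2
      rw [val_nlst] at this
      omega
    · have := hT _ h2
      rw [val_lst] at this
      omega
  · exact fun h => Or.inl ⟨hT k h, h⟩

theorem TD_two {T : Set (Fin (n + 2))} (hT : ∀ t ∈ T, (t : ℕ) < n) :
    TD (insert (nlst n) T) = insert (lst n) (insert (nlst n) T) := by
  ext k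
  have hk := k.2
  constructor
  · rintro (⟨h1, h2⟩ | ⟨h1, h2⟩ | ⟨h1, h2⟩)
    · exact Or.inr h2
    · rcases eq_or_lt_of_le h1 with h3 | h3
      · exact Or.inr (Or.inl (Fin.ext h3.symm))
      · exact Or.inl (Fin.ext (by rw [val_lst]; omega))
    · exact Or.inl (Fin.ext h1)
  · rintro (h | h | h)
    · exact Or.inr (Or.inl ⟨by rw [h, val_lst]; omega, Or.inl rfl⟩)
    · exact Or.inr (Or.inl ⟨by rw [h, val_nlst], Or.inl rfl⟩)
    · exact Or.inl ⟨hT k h, Or.inr h⟩

/-- the numbers in type `B`, all dimension functions at once -/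
theorem cnt_all [Finite W] {e w v : ℕ} (hn : v + e * w = n + 2) {D : Finset (Fin (n + 2)) → ℤ}
    (hB : ∀ T : Finset (Fin (n + 2)), (Nat.card (Quotient (dcs (LB (CoxeterMatrix.B (n + 2)).toCoxeterSystem e w)
      (Subgroup.closure ((CoxeterMatrix.B (n + 2)).toCoxeterSystem.simple '' (T : Set (Fin (n + 2)))ᶜ))
      (BG (CoxeterMatrix.B (n + 2)).toCoxeterSystem e w (T : Set (Fin (n + 2)))))) : ℤ) = D T)
    {U : Finset (Fin (n + 2))} (hU : ∀ k ∈ U, (k : ℕ) < n) :
    ((Nat.card (Quot (DC csD (Nodes.TypeD.isCartan n) (H796.XZ.JA (n + 2) e w) (JTD n e w v)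
      ((Uᶜ : Finset (Fin (n + 2))) : Set (Fin (n + 2))))) : ℤ) = D U) ∧
    ((Nat.card (Quot (DC csD (Nodes.TypeD.isCartan n) (H796.XZ.JA (n + 2) e w) (JTD n e w v)
      (((insert (nlst n) U)ᶜ : Finset (Fin (n + 2))) : Set (Fin (n + 2))))) : ℤ) +
     (Nat.card (Quot (DC csD (Nodes.TypeD.isCartan n) (H796.XZ.JA (n + 2) e w) (JTD n e w v)
      (((insert (lst n) U)ᶜ : Finset (Fin (n + 2))) : Set (Fin (n + 2))))) : ℤ) = D (insert (lst n) U)) ∧
    ((Nat.card (Quot (DC csD (Nodes.TypeD.isCartan n) (H796.XZ.JA (n + 2) e w) (JTD n e w v)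
      (((insert (lst n) (insert (nlst n) U))ᶜ : Finset (Fin (n + 2))) : Set (Fin (n + 2))))) : ℤ) = D (insert (nlst n) U)) := by
  have hU' : ∀ t ∈ (U : Set (Fin (n + 2))), (t : ℕ) < n := fun t ht => hU t (Finset.mem_coe.1 ht)
  refine ⟨?_, ?_, ?_⟩
  · rw [← hB, Finset.coe_compl, ← card_D csD (CoxeterMatrix.B (n + 2)).toCoxeterSystem hn (v := v) (fun h => ?_),
      TD_of_lt hU']
    have := hU' _ h
    rw [val_lst] at this
    omega
  · rw [← hB, Finset.coe_compl, Finset.coe_compl, Finset.coe_insert, Finset.coe_insert,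
      ← card_D_add csD (CoxeterMatrix.B (n + 2)).toCoxeterSystem hn (v := v) hU', Nat.cast_add]
  · rw [← hB, Finset.coe_compl, Finset.coe_insert, Finset.coe_insert,
      ← card_D csD (CoxeterMatrix.B (n + 2)).toCoxeterSystem hn (v := v) (fun h => ?_), TD_two hU']
    rcases h with h | h
    · exact nlst_ne_lst h.symm
    · have := hU' _ h
      rw [val_lst] at this
      omega

theorem hB_V {e w v : ℕ} (he : 0 < e) (hv : 0 < v) (hn : v + e * w = n + 2) (T : Finset (Fin (n + 2))) :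
    (Nat.card (Quotient (dcs (LB csB e w) (Subgroup.closure (csB.simple '' (T : Set (Fin (n + 2)))ᶜ))
      (BG csB e w (T : Set (Fin (n + 2)))))) : ℤ) = nch (ddm (v := v) fun _ : Fin w => e) T := by
  refine Cfsg.Agent.H236.XZ.card_cells_D csB he hv hn T (Quotient.mk (dcs (LB csB e w) (Subgroup.closure (csB.simple '' (T : Set (Fin (n + 2)))ᶜ))
      (BG csB e w (T : Set (Fin (n + 2)))))) Quotient.mk_surjective fun x y => ?_
  refine (dcs_eq (P := BG csB e w (T : Set (Fin (n + 2)))) (x := x) (y := y)).trans ?_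
  constructor
  · rintro ⟨a, ⟨ha1, ha2⟩, b, hb, h⟩
    exact ⟨a, ha1, ha2, b, hb, h⟩
  · rintro ⟨a, ha1, ha2, b, hb, h⟩
    exact ⟨a, ⟨ha1, ha2⟩, b, hb, h⟩

theorem hB_0 {e w : ℕ} (he : 0 < e) (hn : e * w = n + 2) (T : Finset (Fin (n + 2))) :
    (Nat.card (Quotient (dcs (LB csB e w) (Subgroup.closure (csB.simple '' (T : Set (Fin (n + 2)))ᶜ))
      (BG csB e w (T : Set (Fin (n + 2)))))) : ℤ) = nch (H636.LIN.wt fun _ : Fin w => e) T := by
  refine Cfsg.Agent.H236.XZ.card_cells_D0 csB he hn T (Quotient.mk (dcs (LB csB e w) (Subgroup.closure (csB.simple '' (T : Set (Fin (n + 2)))ᶜ))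
      (BG csB e w (T : Set (Fin (n + 2)))))) Quotient.mk_surjective fun x y => ?_
  refine (dcs_eq (P := BG csB e w (T : Set (Fin (n + 2)))) (x := x) (y := y)).trans ?_
  constructor
  · rintro ⟨a, ⟨ha1, ha2⟩, b, hb, h⟩
    exact ⟨a, ha1, ha2, b, hb, h⟩
  · rintro ⟨a, ha1, ha2, b, hb, h⟩
    exact ⟨a, ⟨ha1, ha2⟩, b, hb, h⟩

section V

variable [Finite W] {e w v : ℕ} (he : 0 < e) (hv : 0 < v) (hn : v + e * w = n + 2) {U : Finset (Fin (n + 2))}
  (hU : ∀ k ∈ U, (k : ℕ) < n)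

include he hv hn hU

/-- `V₀ ≠ 0` -/
theorem cntDV_lt : (Nat.card (Quot (DC csD (Nodes.TypeD.isCartan n) (H796.XZ.JA (n + 2) e w) (JTD n e w v)
      ((Uᶜ : Finset (Fin (n + 2))) : Set (Fin (n + 2))))) : ℤ) = nch (ddm (v := v) fun _ : Fin w => e) U :=
  (cnt_all csD hn (hB_V _ he hv hn) hU).1

theorem cntDV_add : (Nat.card (Quot (DC csD (Nodes.TypeD.isCartan n) (H796.XZ.JA (n + 2) e w) (JTD n e w v)
      (((insert (nlst n) U)ᶜ : Finset (Fin (n + 2))) : Set (Fin (n + 2))))) : ℤ) +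
     (Nat.card (Quot (DC csD (Nodes.TypeD.isCartan n) (H796.XZ.JA (n + 2) e w) (JTD n e w v)
      (((insert (lst n) U)ᶜ : Finset (Fin (n + 2))) : Set (Fin (n + 2))))) : ℤ) =
      nch (ddm (v := v) fun _ : Fin w => e) (insert (lst n) U) :=
  (cnt_all csD hn (hB_V _ he hv hn) hU).2.1

theorem cntDV_two : (Nat.card (Quot (DC csD (Nodes.TypeD.isCartan n) (H796.XZ.JA (n + 2) e w) (JTD n e w v)
      (((insert (lst n) (insert (nlst n) U))ᶜ : Finset (Fin (n + 2))) : Set (Fin (n + 2))))) : ℤ) =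
      nch (ddm (v := v) fun _ : Fin w => e) (insert (nlst n) U) :=
  (cnt_all csD hn (hB_V _ he hv hn) hU).2.2

end V

section O

variable [Finite W] {e w : ℕ} (he : 0 < e) (hn : e * w = n + 2) {U : Finset (Fin (n + 2))} (hU : ∀ k ∈ U, (k : ℕ) < n)

include he hn hU

/-- `V₀ = 0` -/
theorem cntD0_lt : (Nat.card (Quot (DC csD (Nodes.TypeD.isCartan n) (H796.XZ.JA (n + 2) e w) (JTD n e w 0)
      ((Uᶜ : Finset (Fin (n + 2))) : Set (Fin (n + 2))))) : ℤ) = nch (H636.LIN.wt fun _ : Fin w => e) U :=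
  (cnt_all csD (by omega) (hB_0 _ he hn) hU).1

theorem cntD0_add : (Nat.card (Quot (DC csD (Nodes.TypeD.isCartan n) (H796.XZ.JA (n + 2) e w) (JTD n e w 0)
      (((insert (nlst n) U)ᶜ : Finset (Fin (n + 2))) : Set (Fin (n + 2))))) : ℤ) +
     (Nat.card (Quot (DC csD (Nodes.TypeD.isCartan n) (H796.XZ.JA (n + 2) e w) (JTD n e w 0)
      (((insert (lst n) U)ᶜ : Finset (Fin (n + 2))) : Set (Fin (n + 2))))) : ℤ) =
      nch (H636.LIN.wt fun _ : Fin w => e) (insert (lst n) U) :=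
  (cnt_all csD (by omega) (hB_0 _ he hn) hU).2.1

theorem cntD0_two : (Nat.card (Quot (DC csD (Nodes.TypeD.isCartan n) (H796.XZ.JA (n + 2) e w) (JTD n e w 0)
      (((insert (lst n) (insert (nlst n) U))ᶜ : Finset (Fin (n + 2))) : Set (Fin (n + 2))))) : ℤ) =
      nch (H636.LIN.wt fun _ : Fin w => e) (insert (nlst n) U) :=
  (cnt_all csD (by omega) (hB_0 _ he hn) hU).2.2

end O

end Cfsg.Agent.H967.XZ
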