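import Cfsg.Agent.Nodes.NormalForm
import Cfsg.Agent.Nodes.LeviDec
import Cfsg.Agent.Tits.ExtAux

/-!
# Intersections of standard parabolic and Levi subgroups of a root group datum (helper967, for S4791, S4927)

* `PJ_inter` : `P_K ⊓ P_{K'} = P_{K ∩ K'}`;
* `LJ_inter` : `L_K ⊓ L_{K'} = L_{K ∩ K'}`;
* `LJ_biInter` : the intersection over a finite family.
-/

set_option autoImplicit false
set_option linter.unusedSectionVars false

namespace Cfsg.Agent.H967.XZ

open CoxeterSystem Cfsg.Agent.ChevalleyStructure.CoxeterGeom Cfsg.Agent.Tits.Roots Cfsg.Agent.Tits.Core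
  Cfsg.Agent.Tits.Exchange Cfsg.Agent.Nodes.Reps Cfsg.Agent.Nodes.BNOf Cfsg.Agent.Nodes.StabComb
  Cfsg.Agent.Nodes.Bruhat Cfsg.Agent.Nodes.OppDec Cfsg.Agent.Nodes.LeviDec

variable {I W Y : Type*} [Fintype I] [DecidableEq I] [Group W] [Group Y] {M : CoxeterMatrix I}
  {cs : CoxeterSystem M W} {A : I → I → ℤ} {h : IsCartan M A} {r : ℕ} {T : Subgroup Y} {n : I → Y}
  {X : (I → ℤ) → Subgroup Y}

theorem RootsJ_mono {K L : Set I} (hKL : K ⊆ L) : RootsJ cs h K ⊆ RootsJ cs h L :=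
  fun _ hx => ⟨hx.1, fun k hk => hx.2 k fun hk' => hk (hKL hk')⟩

theorem LJ_mono' {K L : Set I} (hKL : K ⊆ L) : LJ cs h T X K ≤ LJ cs h T X L :=
  sup_le T_le_LJ (RGD.Sup_le fun _ hx => X_le_LJ (RootsJ_mono hKL hx))

variable (R : RGD cs h r T n X) [Finite W]

include R

theorem PJ_inter (K L : Set I) : PJ cs h T X K ⊓ PJ cs h T X L = PJ cs h T X (K ∩ L) := by
  apply le_antisymm
  · rintro g ⟨hg, hg'⟩
    obtain ⟨w, hw, hc⟩ := (mem_PJ_iff_cell R).1 hg
    have hw' := (cell_mem_PJ_iff R hc).1 hg'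
    exact (cell_mem_PJ_iff R hc).2 (Cfsg.Agent.Tits.Ext.WJ_inter Cfsg.Agent.Tits.Ext.simple_injective hw hw')
  · intro g hg
    obtain ⟨w, hw, hc⟩ := (mem_PJ_iff_cell R).1 hg
    exact ⟨(cell_mem_PJ_iff R hc).2 (Subgroup.closure_mono (Set.image_mono Set.inter_subset_left) hw),
      (cell_mem_PJ_iff R hc).2 (Subgroup.closure_mono (Set.image_mono Set.inter_subset_right) hw)⟩

/-- the positive roots of `K` which are not in `L` -/
def PosD (cs : CoxeterSystem M W) (h : IsCartan M A) (K L : Set I) : Set (I → ℤ) :=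
  {x | x ∈ PosJ cs h K ∧ ∃ k, k ∉ L ∧ 0 < x k}

theorem UJ_le_sup (K L : Set I) : ∀ g ∈ UJ cs h X K, ∃ u ∈ UJ cs h X (K ∩ L), ∃ v ∈ RGD.Sup X (PosD cs h K L), g = u * v := by
  have h1 : UJ cs h X K ≤ UJ cs h X (K ∩ L) ⊔ RGD.Sup X (PosD cs h K L) := by
    refine RGD.Sup_le fun x hx => ?_
    by_cases hc : ∃ k, k ∉ L ∧ 0 < x k
    · exact le_trans (RGD.le_Sup (show x ∈ PosD cs h K L from ⟨hx, hc⟩)) le_sup_right
    · refine le_trans (RGD.le_Sup (show x ∈ PosJ cs h (K ∩ L) from ⟨hx.1, hx.2.1, fun k hk => ?_⟩)) le_sup_left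
      by_cases hkK : k ∈ K
      · have hkL : k ∉ L := fun hkL => hk ⟨hkK, hkL⟩
        have h2 : 0 ≤ x k := hx.2.1 k
        by_contra h3
        exact hc ⟨k, hkL, lt_of_le_of_ne h2 (Ne.symm h3)⟩
      · exact hx.2.2 k hkK
  have h2 : UJ cs h X (K ∩ L) ≤ Subgroup.normalizer (RGD.Sup X (PosD cs h K L) : Set Y) := by
    refine RGD.Sup_le fun x hx => ?_
    refine R.le_normalizer hx.1 fun y hy => ⟨hy.1.1, Or.inr ⟨?_, fun z hz => ?_⟩⟩
    · rintro rfl
      obtain ⟨k, hk, hk0⟩ := hy.2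
      have h3 := hx.2.2 k fun hk' => hk hk'.2
      rw [Pi.neg_apply] at h3
      omega
    · obtain ⟨k, hk, hk0⟩ := hy.2
      have h3 : 0 < z k := btwn_apply_pos hz.symm hk0 (by rw [hx.2.2 k fun hk' => hk hk'.2])
      refine ⟨⟨hz.1, nonneg_of_pos_apply hz.1 h3, fun j hj => ?_⟩, k, hk, h3⟩
      obtain ⟨-, m, a, b, hm, ha, hb, e⟩ := hz
      have h4 := congrFun e j
      simp only [Pi.add_apply, Pi.smul_apply, smul_eq_mul] at h4
      rw [hx.2.2 j fun hj' => hj hj'.1, hy.1.2.2 j hj, mul_zero, mul_zero, add_zero] at h4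
      rcases mul_eq_zero.1 h4 with h5 | h5
      · omega
      · exact h5
  intro g hg
  have h3 : g ∈ ((UJ cs h X (K ∩ L) ⊔ RGD.Sup X (PosD cs h K L) : Subgroup Y) : Set Y) := h1 hg
  rw [Subgroup.coe_mul_of_left_le_normalizer_right _ _ h2, Set.mem_mul] at h3
  obtain ⟨u, hu, v, hv, e⟩ := h3
  exact ⟨u, hu, v, hv, e.symm⟩

theorem LJ_inter (K L : Set I) : LJ cs h T X K ⊓ LJ cs h T X L = LJ cs h T X (K ∩ L) := by
  apply le_antisymm
  · rintro g ⟨hg, hg'⟩
    have h1 : g ∈ PJ cs h T X (K ∩ L) := by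
      rw [← PJ_inter R]
      exact ⟨LJ_le_PJ hg, LJ_le_PJ hg'⟩
    obtain ⟨l, hl, v, hv, e⟩ := (mem_PJ R).1 h1
    have hlK := LJ_mono' (cs := cs) (h := h) (T := T) (X := X) (Set.inter_subset_left (s := K) (t := L)) hl
    have hlL := LJ_mono' (cs := cs) (h := h) (T := T) (X := X) (Set.inter_subset_right (s := K) (t := L)) hl
    have ev : v = l⁻¹ * g := by rw [e, inv_mul_cancel_left]
    have hvK : v ∈ LJ cs h T X K := by rw [ev]; exact mul_mem (inv_mem hlK) hg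
    have hvL : v ∈ LJ cs h T X L := by rw [ev]; exact mul_mem (inv_mem hlL) hg'
    -- `v` is in `U_K`
    obtain ⟨u₁, hu₁, v₁, hv₁, e₁⟩ := (mem_U_iff R (J := K)).1 (VJ_le_U _ hv)
    have hu₁K : u₁ ∈ LJ cs h T X K :=
      (RGD.Sup_le (fun _ hx => X_le_LJ (PosJ_subset K hx)) : UJ cs h X K ≤ LJ cs h T X K) hu₁
    have h2 : v₁ = 1 := eq_one_of_mem_LJ_of_mem_VJ R (J := K) (by
      have : v₁ = u₁⁻¹ * v := by rw [e₁, inv_mul_cancel_left]
      rw [this]
      exact mul_mem (inv_mem hu₁K) hvK) hv₁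
    rw [h2, mul_one] at e₁
    subst e₁
    obtain ⟨u, hu, v', hv', e₂⟩ := UJ_le_sup R K L v hu₁
    have hv1 : v' ∈ VJ cs h X (K ∩ L) := by
      refine (RGD.Sup_mono fun x hx => ?_ : RGD.Sup X (PosD cs h K L) ≤ VJ cs h X (K ∩ L)) hv'
      obtain ⟨h3, k, hk, hk0⟩ := hx
      exact ⟨h3.1, h3.2.1, k, fun hk' => hk hk'.2, hk0⟩
    have hv2 : v' ∈ VJ cs h X L := by
      refine (RGD.Sup_mono fun x hx => ?_ : RGD.Sup X (PosD cs h K L) ≤ VJ cs h X L) hv'
      obtain ⟨h3, k, hk, hk0⟩ := hx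
      exact ⟨h3.1, h3.2.1, k, hk, hk0⟩
    have hu1 : u = 1 := by
      refine eq_one_of_mem_LJ_of_mem_VJ R (J := K ∩ L)
        ((RGD.Sup_le (fun _ hx => X_le_LJ (PosJ_subset _ hx)) : UJ cs h X (K ∩ L) ≤ LJ cs h T X (K ∩ L)) hu) ?_
      have : u = v * v'⁻¹ := by rw [e₂, mul_inv_cancel_right]
      rw [this]
      exact mul_mem hv (inv_mem hv1)
    rw [hu1, one_mul] at e₂
    subst e₂
    rw [e, eq_one_of_mem_LJ_of_mem_VJ R (J := L) hvL hv2, mul_one]
    exact hl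
  · exact le_inf (LJ_mono' Set.inter_subset_left) (LJ_mono' Set.inter_subset_right)

/-- the intersection of finitely many Levi subgroups -/
theorem mem_LJ_iff_forall (hG : GG cs h T X = ⊤) (N : Finset I) {g : Y} :
    g ∈ LJ cs h T X ((N : Set I)ᶜ) ↔ ∀ k ∈ N, g ∈ LJ cs h T X ({k}ᶜ : Set I) := by
  classical
  induction N using Finset.induction_on with
  | empty =>
    have h1 : ((∅ : Finset I) : Set I)ᶜ = Set.univ := by simp
    rw [h1]
    refine ⟨fun _ k hk => absurd hk (Finset.notMem_empty k), fun _ => ?_⟩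
    rw [LJ_univ, hG]
    exact Subgroup.mem_top g
  | insert k N hk ih =>
    have h1 : ((insert k N : Finset I) : Set I)ᶜ = {k}ᶜ ∩ (N : Set I)ᶜ := by
      ext x
      simp
    rw [h1, ← LJ_inter R, Subgroup.mem_inf, ih]
    constructor
    · rintro ⟨h2, h3⟩ j hj
      rcases Finset.mem_insert.1 hj with rfl | hj
      · exact h2
      · exact h3 j hj
    · intro h2
      exact ⟨h2 k (Finset.mem_insert_self _ _), fun j hj => h2 j (Finset.mem_insert_of_mem hj)⟩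

/-- the intersection of finitely many parabolic subgroups -/
theorem mem_PJ_iff_forall (hG : GG cs h T X = ⊤) (N : Finset I) {g : Y} :
    g ∈ PJ cs h T X ((N : Set I)ᶜ) ↔ ∀ k ∈ N, g ∈ PJ cs h T X ({k}ᶜ : Set I) := by
  classical
  induction N using Finset.induction_on with
  | empty =>
    have h1 : ((∅ : Finset I) : Set I)ᶜ = Set.univ := by simp
    rw [h1]
    refine ⟨fun _ k hk => absurd hk (Finset.notMem_empty k), fun _ => ?_⟩
    refine LJ_le_PJ ?_
    rw [LJ_univ, hG]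
    exact Subgroup.mem_top g
  | insert k N hk ih =>
    have h1 : ((insert k N : Finset I) : Set I)ᶜ = {k}ᶜ ∩ (N : Set I)ᶜ := by
      ext x
      simp
    rw [h1, ← PJ_inter R, Subgroup.mem_inf, ih]
    constructor
    · rintro ⟨h2, h3⟩ j hj
      rcases Finset.mem_insert.1 hj with rfl | hj
      · exact h2
      · exact h3 j hj
    · intro h2
      exact ⟨h2 k (Finset.mem_insert_self _ _), fun j hj => h2 j (Finset.mem_insert_of_mem hj)⟩

end Cfsg.Agent.H967.XZ
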