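import Cfsg.Agent.H769.OZ.Levi
import Cfsg.Agent.H796.XZ.LinDefs
import Cfsg.Agent.H967.XZ.CenInter
import Cfsg.Agent.H674.XZ.IsoComp

/-!
# The centraliser of `P₀` in the Witt models (helper967, for S4791, S4927)

The linear primes, type `B_m`, `e w ≤ m`: the coordinates `< e w` form `w` blocks of size `e`;
`Mb Fr e i s` is the span of the block `i` (of sign `s`).

* `cen_of_sep` : if for every block `i < w` and every sign `s` there are `x ∈ P₀` (with a lift of order `p`) and a polynomial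
  `f` with `ker (f x) = Mb i s`, then `C(P₀) ≤ L_{JA ∪ JT}` (the field `cen` of `H796.XZ.LinData`);
* `BlkEl Fr p e i x` : `x` has order `p`, preserves the block `i` and is trivial on its orthogonal space; `BlkEl.sep` : the
  polynomial; `exists_mem_of_blk` : such an element can be chosen in the Sylow `p`-subgroup `P₀` of `L_{JA}`;
* `cen_of` : the result.
-/

set_option autoImplicit false
set_option linter.unusedSectionVars false

namespace Cfsg.Agent.H967.XZ

open Cfsg.Agent.ChevalleyStructure.CoxeterGeom Cfsg.Agent.Tits.Roots Cfsg.Agent.Nodes.TypeC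
open Cfsg.Agent.Nodes Cfsg.Agent.Nodes.Comb Cfsg.Agent.Nodes.Reps Cfsg.Agent.Nodes.WittRoot Cfsg.Agent.Nodes.BNOf
open Cfsg.Agent.Nodes.WittRGD Cfsg.Agent.Nodes.RGDLib Cfsg.Agent.Nodes.WittAll Cfsg.Agent.Nodes.StabComb
open Cfsg.Agent.Nodes.Bruhat Cfsg.Agent.Nodes.OppDec Cfsg.Agent.Nodes.LeviDec
open Cfsg.Agent.TitsThree Cfsg.Agent.TitsThree.Siegel Cfsg.Agent.TitsThree.WittFrame
  Cfsg.Agent.TitsThree.WittWeyl Cfsg.Agent.TitsThree.FrameCN
open Cfsg.Agent.H769.OZ Cfsg.Agent.H796.XZ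
open Polynomial

/-! ### The blocks -/

section lin

variable {F : Type*} [Field F] {V : Type*} [AddCommGroup V] [Module F V] {H : HForm F V} {m : ℕ}

/-- the span of the block `i` -/
def Mb (Fr : Frame H (Fin m)) (e i : ℕ) (s : Bool) : Submodule F V :=
  Submodule.span F {v | ∃ k : Fin m, e * i ≤ k ∧ (k : ℕ) < e * (i + 1) ∧ v = Fr.b (k, s)}

variable {Fr : Frame H (Fin m)}

theorem b_mem_Mb {e i : ℕ} {k : Fin m} (h1 : e * i ≤ k) (h2 : (k : ℕ) < e * (i + 1)) (s : Bool) :
    Fr.b (k, s) ∈ Mb Fr e i s := Submodule.subset_span ⟨k, h1, h2, rfl⟩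

theorem Mb_le_E {e i j : ℕ} {k : Fin m} (hk : (k : ℕ) + 1 = e * (j + 1)) (hij : i ≤ j) (s : Bool) :
    Mb Fr e i s ≤ E Fr k s := by
  refine Submodule.span_le.2 ?_
  rintro _ ⟨l, -, h2, rfl⟩
  refine b_mem_E (Fin.le_def.2 ?_) s
  have h3 : e * (i + 1) ≤ e * (j + 1) := Nat.mul_le_mul_left e (Nat.succ_le_succ hij)
  omega

/-- a map preserving the blocks `≤ j` preserves the member `e (j + 1) - 1` of the flag -/
theorem map_E_of_Mb {e j : ℕ} (he : 0 < e) {k : Fin m} (hk : (k : ℕ) + 1 = e * (j + 1)) {s : Bool} {g : V ≃ₗ[F] V}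
    (hg : ∀ i ≤ j, ∀ v ∈ Mb Fr e i s, g v ∈ Mb Fr e i s) : ∀ v ∈ E Fr k s, g v ∈ E Fr k s := by
  intro v hv
  refine Submodule.span_induction (p := fun v _ => g v ∈ E Fr k s) ?_ ?_ ?_ ?_ hv
  · rintro _ ⟨i, hi, rfl⟩
    have h1 : e * ((i : ℕ) / e) ≤ i := Nat.mul_div_le i e
    have h2 : (i : ℕ) < e * ((i : ℕ) / e + 1) := by
      have := Nat.lt_div_mul_add he (a := (i : ℕ))
      rw [Nat.mul_add, Nat.mul_one, Nat.mul_comm]
      exact this
    have h3 : (i : ℕ) / e ≤ j := by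
      rw [Nat.div_le_iff_le_mul_add_pred he]
      have h4 : (i : ℕ) ≤ k := hi
      have h5 : e * (j + 1) = e * j + e := Nat.mul_succ e j
      omega
    exact Mb_le_E hk h3 s (hg _ h3 _ (b_mem_Mb h1 h2 s))
  · rw [map_zero]
    exact zero_mem _
  · intro x y _ _ hx hy
    rw [map_add]
    exact add_mem hx hy
  · intro c x _ hx
    rw [map_smul]
    exact Submodule.smul_mem _ _ hx

theorem aeval_commute {g x : V ≃ₗ[F] V} (h : g * x = x * g) (f : F[X]) (v : V) :
    aeval (x : Module.End F V) f (g v) = g (aeval (x : Module.End F V) f v) := by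
  have h1 : Commute (g : Module.End F V) (x : Module.End F V) := by
    ext v
    exact LinearEquiv.congr_fun h v
  exact (LinearMap.congr_fun (commute_aeval h1 f).eq v).symm

/-! ### Components -/

/-- the component in the span of the `b (i, s)`, `i ∈ S` -/
def cS (Fr : Frame H (Fin m)) (S : Finset (Fin m)) (s : Bool) (v : V) : V :=
  ∑ i ∈ S, (if s then H.h v (Fr.b (i, false)) else H.ε⁻¹ * H.h v (Fr.b (i, true))) • Fr.b (i, s)

theorem h_cS_same (S : Finset (Fin m)) (s : Bool) (v : V) (j : Fin m) : H.h (cS Fr S s v) (Fr.b (j, s)) = 0 := by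
  rw [cS, h_sum]
  refine Finset.sum_eq_zero fun i _ => ?_
  have h1 : H.h (Fr.b (i, s)) (Fr.b (j, s)) = 0 := by
    rw [Fr.hb, if_neg (fun h => h.2 rfl)]
  rw [h1, mul_zero]

theorem h_cS_opp {S : Finset (Fin m)} (s : Bool) (v : V) {j : Fin m} (hj : j ∈ S) :
    H.h (cS Fr S s v) (Fr.b (j, !s)) = H.h v (Fr.b (j, !s)) := by
  rw [cS, h_sum]
  have hne : ∀ i : Fin m, i ≠ j → H.h (Fr.b (i, s)) (Fr.b (j, !s)) = 0 := fun i hi => Fr.hb_of_ne hi
  rw [Finset.sum_eq_single j (fun i _ hi => by rw [hne i hi, mul_zero]) (fun h => absurd hj h)]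
  rw [Fr.hb]
  cases s
  · simp only [Bool.false_eq_true, if_false, Bool.not_false, ne_eq, not_false_eq_true, and_self,
      if_true]
    rw [mul_comm, ← mul_assoc, mul_inv_cancel₀ H.ε_ne, one_mul]
  · simp

/-- the rest is orthogonal to the `b (j, s)`, `j ∈ S` -/
theorem h_rest {S : Finset (Fin m)} (v : V) {j : Fin m} (hj : j ∈ S) (s : Bool) :
    H.h (v - cS Fr S true v - cS Fr S false v) (Fr.b (j, s)) = 0 := by
  rw [H.sub_left, H.sub_left]
  cases s
  · have := h_cS_opp (Fr := Fr) true v hj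
    rw [Bool.not_true] at this
    rw [this, h_cS_same]
    ring
  · have := h_cS_opp (Fr := Fr) false v hj
    rw [Bool.not_false] at this
    rw [this, h_cS_same]
    ring

/-- the coordinates of the block `i` -/
def Bk (m e i : ℕ) : Finset (Fin m) := Finset.univ.filter fun k => e * i ≤ (k : ℕ) ∧ (k : ℕ) < e * (i + 1)

theorem mem_Bk {e i : ℕ} {k : Fin m} : k ∈ Bk m e i ↔ e * i ≤ (k : ℕ) ∧ (k : ℕ) < e * (i + 1) := by simp [Bk]

theorem b_mem_Mb' {e i : ℕ} {k : Fin m} (h : k ∈ Bk m e i) (s : Bool) : Fr.b (k, s) ∈ Mb Fr e i s :=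
  b_mem_Mb (mem_Bk.1 h).1 (mem_Bk.1 h).2 s

theorem cS_mem_Mb (e i : ℕ) (s : Bool) (v : V) : cS Fr (Bk m e i) s v ∈ Mb Fr e i s :=
  Submodule.sum_mem _ fun _ hi => Submodule.smul_mem _ _ (b_mem_Mb' hi s)

theorem cS_zero {S : Finset (Fin m)} {s : Bool} {v : V} (h : ∀ k ∈ S, H.h v (Fr.b (k, !s)) = 0) : cS Fr S s v = 0 := by
  refine Finset.sum_eq_zero fun k hk => ?_
  have h1 := h k hk
  cases s
  · rw [Bool.not_false] at h1
    simp only [Bool.false_eq_true, if_false]
    rw [h1, mul_zero, zero_smul]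
  · rw [Bool.not_true] at h1
    simp only [if_true]
    rw [h1, zero_smul]

theorem eq_cS {e i : ℕ} {s : Bool} {v : V} (hv : v ∈ Mb Fr e i s) : v = cS Fr (Bk m e i) s v := by
  refine Submodule.span_induction (p := fun v _ => v = cS Fr (Bk m e i) s v) ?_ ?_ ?_ ?_ hv
  · rintro _ ⟨k, h1, h2, rfl⟩
    unfold cS
    rw [Finset.sum_eq_single k]
    · rw [Fr.hb, Fr.hb]
      cases s
      · simp only [Bool.false_eq_true, if_false, ne_eq, Bool.false_eq_true, not_false_eq_true, and_self, if_true,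
          inv_mul_cancel₀ H.ε_ne, one_smul]
      · simp
    · intro j _ hj
      rw [Fr.hb_of_ne (x := (k, s)) (y := (j, false)) (Ne.symm hj),
        Fr.hb_of_ne (x := (k, s)) (y := (j, true)) (Ne.symm hj)]
      simp
    · intro h
      exact absurd (mem_Bk.2 ⟨h1, h2⟩) h
  · unfold cS
    simp [H.zero_left]
  · intro x y _ _ hx hy
    have : cS Fr (Bk m e i) s (x + y) = cS Fr (Bk m e i) s x + cS Fr (Bk m e i) s y := by
      unfold cS
      rw [← Finset.sum_add_distrib]
      refine Finset.sum_congr rfl fun i _ => ?_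
      rw [← add_smul, H.add_left, H.add_left]
      cases s <;> simp [mul_add]
    rw [this, ← hx, ← hy]
  · intro c x _ hx
    have : cS Fr (Bk m e i) s (c • x) = c • cS Fr (Bk m e i) s x := by
      unfold cS
      rw [Finset.smul_sum]
      refine Finset.sum_congr rfl fun i _ => ?_
      rw [smul_smul, H.smul_left, H.smul_left]
      congr 1
      cases s
      · simp only [Bool.false_eq_true, if_false]
        ring
      · simp
    rw [this, ← hx]

/-- the block and its opposite are in duality -/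
theorem Mb_nondeg {e i : ℕ} {s : Bool} {v : V} (hv : v ∈ Mb Fr e i s) (h : ∀ u ∈ Mb Fr e i (!s), H.h v u = 0) : v = 0 := by
  rw [eq_cS hv]
  exact cS_zero fun k hk => h _ (b_mem_Mb' hk _)

theorem h_Mb_of_b {e i : ℕ} {s : Bool} {v : V} (h : ∀ k ∈ Bk m e i, H.h v (Fr.b (k, s)) = 0) :
    ∀ u ∈ Mb Fr e i s, H.h v u = 0 := by
  intro u hu
  refine Submodule.span_induction (p := fun u _ => H.h v u = 0) ?_ ?_ ?_ ?_ hu
  · rintro _ ⟨k, h1, h2, rfl⟩
    exact h k (mem_Bk.2 ⟨h1, h2⟩)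
  · exact H.zero_right _
  · intro x y _ _ hx hy
    rw [H.add_right, hx, hy, add_zero]
  · intro c x _ hx
    rw [H.smul_right, hx, mul_zero]

/-- the decomposition of the space with respect to a block -/
theorem dec_Mb (e i : ℕ) (s : Bool) (v : V) : ∃ a ∈ Mb Fr e i s, ∃ b ∈ Mb Fr e i (!s), ∃ c : V,
    (∀ t, ∀ u ∈ Mb Fr e i t, H.h c u = 0) ∧ v = a + b + c := by
  refine ⟨cS Fr (Bk m e i) s v, cS_mem_Mb e i s v, cS Fr (Bk m e i) (!s) v, cS_mem_Mb e i _ v,
    v - cS Fr (Bk m e i) true v - cS Fr (Bk m e i) false v, fun t => h_Mb_of_b fun k hk => h_rest v hk t, ?_⟩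
  cases s
  · rw [Bool.not_false]
    abel
  · rw [Bool.not_true]
    abel

theorem card_Bk_le (e i : ℕ) : (Bk m e i).card ≤ e := by
  have h1 : ((Bk m e i).image fun k : Fin m => (k : ℕ)) ⊆ Finset.Ico (e * i) (e * (i + 1)) := by
    intro k hk
    obtain ⟨l, hl, rfl⟩ := Finset.mem_image.1 hk
    exact Finset.mem_Ico.2 (mem_Bk.1 hl)
  have h2 := Finset.card_le_card h1
  rw [Finset.card_image_of_injective _ Fin.val_injective, Nat.card_Ico, Nat.mul_succ, Nat.add_sub_cancel_left] at h2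
  exact h2

theorem finrank_Mb_le (e i : ℕ) (s : Bool) : Module.finrank F (Mb Fr e i s) ≤ e := by
  classical
  have h1 : Mb Fr e i s = Submodule.span F (((Bk m e i).image fun k => Fr.b (k, s) : Finset V) : Set V) := by
    unfold Mb
    congr 1
    ext v
    simp only [Set.mem_ofPred_eq, Finset.coe_image, Set.mem_image, Finset.mem_coe, mem_Bk]
    constructor
    · rintro ⟨k, h1, h2, rfl⟩
      exact ⟨k, ⟨h1, h2⟩, rfl⟩
    · rintro ⟨k, ⟨h1, h2⟩, rfl⟩
      exact ⟨k, h1, h2, rfl⟩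
  rw [h1]
  exact (finrank_span_finset_le_card _).trans (Finset.card_image_le.trans (card_Bk_le e i))

theorem mem_Mb_iff {e i : ℕ} {k : Fin m} (hk : (k : ℕ) + 1 = e * (i + 1)) {s : Bool} {v : V} :
    v ∈ Mb Fr e i s ↔ v ∈ E Fr k s ∧ ∀ j : Fin m, (j : ℕ) < e * i → H.h v (Fr.b (j, !s)) = 0 := by
  constructor
  · intro hv
    refine ⟨Mb_le_E hk le_rfl s hv, fun j hj => ?_⟩
    refine Submodule.span_induction (p := fun v _ => H.h v (Fr.b (j, !s)) = 0) ?_ ?_ ?_ ?_ hv
    · rintro _ ⟨l, h1, -, rfl⟩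
      refine Fr.hb_of_ne (fun h => ?_)
      have h2 : l = j := h
      rw [h2] at h1
      omega
    · exact H.zero_left _
    · intro x y _ _ hx hy
      rw [H.add_left, hx, hy, add_zero]
    · intro c x _ hx
      rw [H.smul_left, hx, mul_zero]
  · rintro ⟨h1, h2⟩
    rw [eq_cmp h1]
    unfold H769.OZ.cmp
    refine Submodule.sum_mem _ fun l hl => ?_
    have hlk : (l : ℕ) ≤ k := Fin.le_def.1 (Finset.mem_Iic.1 hl)
    by_cases h3 : (l : ℕ) < e * i
    · have h4 := h2 l h3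
      cases s
      · rw [Bool.not_false] at h4
        simp only [Bool.false_eq_true, if_false]
        rw [h4, mul_zero, zero_smul]
        exact zero_mem _
      · rw [Bool.not_true] at h4
        simp only [if_true]
        rw [h4, zero_smul]
        exact zero_mem _
    · exact Submodule.smul_mem _ _ (b_mem_Mb (not_lt.1 h3) (by omega) s)

theorem aeval_fixed {x : Module.End F V} {t : V} (ht : x t = t) (P : F[X]) : aeval x P t = P.eval 1 • t := by
  induction P using Polynomial.induction_on' with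
  | add P Q hP hQ => rw [map_add, LinearMap.add_apply, hP, hQ, eval_add, add_smul]
  | monomial k b =>
    have h6 : ∀ k : ℕ, (x ^ k) t = t := by
      intro k
      induction k with
      | zero => rfl
      | succ k ih => rw [pow_succ', Module.End.mul_apply, ih, ht]
    rw [aeval_monomial, Module.End.mul_apply, h6, Module.algebraMap_end_apply, eval_monomial, one_pow, mul_one]

theorem aeval_restrict' {x : Module.End F V} {D : Submodule F V} (h : ∀ v ∈ D, x v ∈ D) (P : F[X]) (u : D) :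
    ((aeval (x.restrict h) P u : D) : V) = aeval x P (u : V) := by
  induction P using Polynomial.induction_on' with
  | add P Q hP hQ => rw [map_add, map_add, LinearMap.add_apply, LinearMap.add_apply, Submodule.coe_add, hP, hQ]
  | monomial k b =>
    have h6 : ∀ (k : ℕ) (u : D), (((x.restrict h) ^ k) u : V) = (x ^ k) (u : V) := by
      intro k
      induction k with
      | zero => intro u; rfl
      | succ k ih =>
        intro u
        rw [pow_succ', pow_succ', Module.End.mul_apply, Module.End.mul_apply, LinearMap.coe_restrict_apply, ih]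
    rw [aeval_monomial, aeval_monomial, Module.End.mul_apply, Module.End.mul_apply, Module.algebraMap_end_apply,
      Module.algebraMap_end_apply, Submodule.coe_smul, h6]

end lin

/-! ### Elements of a block -/

section blk

variable {F : Type*} [Field F] {V : Type*} [AddCommGroup V] [Module F V] {H : HForm F V} {m : ℕ}

/-- an element of order `p` acting on the block `i` only -/
structure BlkEl (Fr : Frame H (Fin m)) (p e i : ℕ) (x : V ≃ₗ[F] V) : Prop where
  pow : x ^ p = 1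
  ne : x ≠ 1
  blk : ∀ s, ∀ v ∈ Mb Fr e i s, x v ∈ Mb Fr e i s
  fix : ∀ v, (∀ s, ∀ u ∈ Mb Fr e i s, H.h v u = 0) → x v = v

variable {Fr : Frame H (Fin m)}

/-- from the action on the frame and on `V₀` -/
theorem BlkEl.of {r : ℕ} {G0 : Subgroup (V ≃ₗ[F] V)} (hA : AmbT Fr r G0) {p e i : ℕ} {x : V ≃ₗ[F] V} (h1 : x ^ p = 1)
    (h2 : x ≠ 1) (h3 : ∀ s, ∀ v ∈ Mb Fr e i s, x v ∈ Mb Fr e i s)
    (h4 : ∀ (k : Fin m) s, ((k : ℕ) < e * i ∨ e * (i + 1) ≤ (k : ℕ)) → x (Fr.b (k, s)) = Fr.b (k, s))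
    (h5 : ∀ v ∈ Fr.V0, x v = v) : BlkEl Fr p e i x := by
  refine ⟨h1, h2, h3, fun v hv => ?_⟩
  set n : V := v - cS Fr Finset.univ true v - cS Fr Finset.univ false v with hn
  have h6 : x n = n := h5 n (hA.V0 n fun y => h_rest v (Finset.mem_univ y.1) y.2)
  have h7 : ∀ s, x (cS Fr Finset.univ s v) = cS Fr Finset.univ s v := by
    intro s
    unfold cS
    rw [map_sum]
    refine Finset.sum_congr rfl fun k _ => ?_
    rw [map_smul]
    by_cases hk : k ∈ Bk m e i
    · have h8 : H.h v (Fr.b (k, !s)) = 0 := hv _ _ (b_mem_Mb' hk _)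
      cases s
      · rw [Bool.not_false] at h8
        simp only [Bool.false_eq_true, if_false]
        rw [h8, mul_zero, zero_smul, zero_smul]
      · rw [Bool.not_true] at h8
        simp only [if_true]
        rw [h8, zero_smul, zero_smul]
    · rw [h4 k s (by rw [mem_Bk] at hk; omega)]
  have h8 : v = cS Fr Finset.univ true v + cS Fr Finset.univ false v + n := by
    rw [hn]
    abel
  rw [h8, map_add, map_add, h7, h7, h6]

/-- conjugation with an isometry preserving the block -/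
theorem BlkEl.conj {p e i : ℕ} {x g : V ≃ₗ[F] V} (hx : BlkEl Fr p e i x) (hi : H.IsIso g)
    (hg : ∀ s, g ∈ StE (Mb Fr e i s)) : BlkEl Fr p e i (g * x * g⁻¹) := by
  have e1 : ∀ v, (g * x * g⁻¹) v = g (x (g⁻¹ v)) := fun _ => rfl
  refine ⟨by rw [conj_pow, hx.pow, mul_one, mul_inv_cancel], fun h => hx.ne ?_, fun s v hv => ?_, fun v hv => ?_⟩
  · rw [mul_inv_eq_one] at h
    exact mul_eq_left.1 h
  · rw [e1]
    exact (hg s _).2 (hx.blk s _ ((hg s _).1 (by rwa [apply_inv_self])))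
  · rw [e1, hx.fix (g⁻¹ v) fun s u hu => ?_, apply_inv_self]
    rw [← hi, apply_inv_self]
    exact hv s _ ((hg s _).2 hu)

variable [Finite V]

/-- the separating polynomial -/
theorem BlkEl.sep [Fintype F] {p e i : ℕ} [Fact p.Prime] {x : V ≃ₗ[F] V} (hx : BlkEl Fr p e i x) (hi : H.IsIso x)
    (he : e = orderOf (Fintype.card F : ZMod p)) (hpF : ¬ p ∣ Fintype.card F) {r t : ℕ} [Fact r.Prime] [CharP F r]
    (hσ : ∀ a, H.σ a = a ^ (r ^ t)) (hlin : ∀ j, ¬ p ∣ Fintype.card F ^ j + r ^ t) (s : Bool) :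
    ∃ f : F[X], ∀ v, aeval (x : Module.End F V) f v = 0 ↔ v ∈ Mb Fr e i s := by
  set X : Module.End F V := (x : Module.End F V) with hX
  have hXa : ∀ v, X v = x v := fun _ => rfl
  have hb : ∀ s, ∀ v ∈ Mb Fr e i s, X v ∈ Mb Fr e i s := hx.blk
  have hXp : X ^ p = 1 := by
    have h1 : ∀ n : ℕ, X ^ n = ((x ^ n : V ≃ₗ[F] V) : Module.End F V) := by
      intro n
      induction n with
      | zero => rfl
      | succ n ih => rw [pow_succ, ih, pow_succ]; rfl
    rw [h1, hx.pow]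
    rfl
  -- nondegeneracy
  have hnd : ∀ v ∈ Mb Fr e i (!s), (∀ u ∈ Mb Fr e i s, H.h u v = 0) → v = 0 := by
    intro v hv h
    refine Mb_nondeg hv fun u hu => H.orth_symm (h u ?_)
    rwa [Bool.not_not] at hu
  have hne : X.restrict (hb s) ≠ 1 := by
    intro h1
    apply hx.ne
    have h2 : ∀ u ∈ Mb Fr e i s, x u = u := fun u hu => congrArg Subtype.val (LinearMap.congr_fun h1 ⟨u, hu⟩)
    have h3 : ∀ v ∈ Mb Fr e i (!s), x v = v := by
      intro v hv
      rw [← sub_eq_zero]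
      refine hnd _ (sub_mem (hx.blk _ v hv) hv) fun u hu => ?_
      rw [H.sub_right]
      have h4 := hi u v
      rw [h2 u hu] at h4
      rw [h4, sub_self]
    ext v
    obtain ⟨a, ha, b, hb', c, hc, rfl⟩ := dec_Mb (Fr := Fr) e i s v
    rw [map_add, map_add, h2 a ha, h3 b hb', hx.fix c hc]
    rfl
  obtain ⟨f, hf1, hf2, hf3⟩ := H674.XZ.Iso.exists_poly (F := F) (M := Mb Fr e i s) (N := Mb Fr e i (!s)) hpF H.σ hσ hlin
    (x := X.restrict (hb s)) (y := X.restrict (hb (!s)))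
    (by
      rw [Module.End.pow_restrict]
      apply LinearMap.ext
      intro u
      apply Subtype.ext
      rw [LinearMap.coe_restrict_apply, hXp]
      rfl) hne (he ▸ finrank_Mb_le e i s) (B := fun u v => H.h (u : V) (v : V))
    (fun u u' v => H.add_left _ _ _) (fun u v v' => H.add_right _ _ _) (fun a u v => H.smul_left _ _ _)
    (fun a u v => H.smul_right _ _ _) (fun u v => hi _ _)
    (fun v hv => Subtype.ext (hnd _ v.2 fun u hu => hv ⟨u, hu⟩))
  refine ⟨f, fun v => ⟨fun hv => ?_, fun hv => ?_⟩⟩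
  · obtain ⟨a, ha, b, hb', c, hc, rfl⟩ := dec_Mb (Fr := Fr) e i s v
    have h1 : aeval X f a = 0 := by
      have := aeval_restrict' (hb s) f ⟨a, ha⟩
      rw [hf2] at this
      exact this.symm
    have h2 : aeval X f c = f.eval 1 • c := aeval_fixed (hx.fix c hc) f
    have h3 : aeval X f b ∈ Mb Fr e i (!s) := aeval_mem (hb (!s)) f b hb'
    rw [map_add, map_add, h1, zero_add, h2] at hv
    have h4 : c ∈ Mb Fr e i (!s) := by
      have h5 : f.eval 1 • c ∈ Mb Fr e i (!s) := by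
        rw [eq_neg_of_add_eq_zero_right hv]
        exact neg_mem h3
      have h6 := Submodule.smul_mem _ (f.eval 1)⁻¹ h5
      rwa [smul_smul, inv_mul_cancel₀ hf1, one_smul] at h6
    have h5 : c = 0 := Mb_nondeg h4 fun u hu => hc _ u hu
    rw [h5, smul_zero, add_zero] at hv
    have h6 : b = 0 := by
      have h7 := aeval_restrict' (hb (!s)) f ⟨b, hb'⟩
      have h8 : aeval (X.restrict (hb (!s))) f ⟨b, hb'⟩ = 0 := Subtype.ext (h7.trans hv)
      have h9 := hf3 (h8.trans (map_zero (aeval (X.restrict (hb (!s))) f)).symm)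
      exact congrArg Subtype.val h9
    rw [h5, h6, add_zero, add_zero]
    exact ha
  · have := aeval_restrict' (hb s) f ⟨v, hv⟩
    rw [hf2] at this
    exact this.symm

end blk

/-! ### The centraliser -/

section group

variable {F : Type*} [Field F] {V : Type*} [AddCommGroup V] [Module F V] {H : HForm F V} {m : ℕ}
  {Fr : Frame H (Fin m)} {Y : Type*} [Group Y] (M : Model Fr Y)

/-- the elements of the kernel are scalars -/
theorem exists_scalar {z : M.I} (hz : M.φ z = 1) : ∃ a : F, ∀ v, z.1 v = a • v := by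
  obtain ⟨a, ha⟩ := LinearMap.exists_eq_smul_id_of_forall_notLinearIndependent (f := (z.1 : V →ₗ[F] V)) (fun v => by
    intro hli
    obtain ⟨k, hk⟩ := exists_of_ker M hz v
    have h1 := LinearIndependent.pair_iff.1 hli k (-1) (by
      change k • v + (-1 : F) • z.1 v = 0
      rw [hk, neg_smul, one_smul, add_neg_cancel])
    have h2 := h1.2
    exact one_ne_zero (neg_eq_zero.1 h2))
  exact ⟨a, fun v => LinearMap.congr_fun ha v⟩

/-- a kernel element of order `p` is trivial -/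
theorem eq_one_of_ker_pow {r : ℕ} (hA : AmbT Fr r M.I) (hm : 0 < m) {p : ℕ}
    (hs : ∀ a : F, a * H.σ a = 1 → a ^ p = 1 → a = 1) {z : M.I} (hz : M.φ z = 1) (hp : z ^ p = 1) : z = 1 := by
  obtain ⟨a, ha⟩ := exists_scalar M hz
  set v : V := Fr.b (⟨0, hm⟩, true) with hv
  set v' : V := Fr.b (⟨0, hm⟩, false) with hv'
  have h0 : H.h v v' = 1 := by
    rw [hv, hv', Fr.hb]
    simp
  have hv0 : v ≠ 0 := by
    intro h
    rw [h, H.zero_left] at h0
    exact zero_ne_one h0
  have h1 : a * H.σ a = 1 := by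
    have h2 := hA.iso _ z.2 v v'
    rw [ha, ha, H.smul_left, H.smul_right, h0, mul_one] at h2
    exact h2
  have h2 : ∀ n : ℕ, (z ^ n : M.I).1 v = a ^ n • v := by
    intro n
    induction n with
    | zero => rw [pow_zero, pow_zero, one_smul]; rfl
    | succ n ih =>
      have e : (z ^ (n + 1) : M.I).1 v = (z ^ n : M.I).1 (z.1 v) := by
        rw [pow_succ]
        rfl
      rw [e, ha, map_smul, ih, smul_smul, pow_succ, mul_comm]
  have h3 : a ^ p = 1 := by
    have h4 := h2 p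
    rw [hp] at h4
    have h5 : (a ^ p - 1) • v = 0 := by
      rw [sub_smul, one_smul, ← h4]
      exact sub_self _
    rcases smul_eq_zero.1 h5 with h | h
    · exact sub_eq_zero.1 h
    · exact absurd h hv0
  apply Subtype.ext
  ext v
  rw [ha, hs a h1 h3, one_smul]
  rfl

/-- a lift of an element commuting with `φ x` commutes with `x`, `x ^ p = 1` -/
theorem commute_of_phi {r : ℕ} (hA : AmbT Fr r M.I) (hm : 0 < m) {p : ℕ}
    (hs : ∀ a : F, a * H.σ a = 1 → a ^ p = 1 → a = 1) {g x : M.I} (hx : x ^ p = 1)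
    (h : M.φ g * M.φ x = M.φ x * M.φ g) : g * x = x * g := by
  set z : M.I := g * x * g⁻¹ * x⁻¹ with hz
  have h1 : M.φ z = 1 := by
    rw [hz, map_mul, map_mul, map_mul, map_inv, map_inv, h]
    group
  have h2 : z ∈ Subgroup.center ↥M.I := Nodes.WittAll.ker_le_center M h1
  have h3 : z * x = x * z := ((Subgroup.mem_center_iff.1 h2) x).symm
  have h4 : z ^ p = 1 := by
    have e : z * x = g * x * g⁻¹ := by
      rw [hz]
      group
    have h5 : (z * x) ^ p = z ^ p * x ^ p := (Commute.mul_pow h3 p)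
    rw [e, conj_pow, hx, mul_one, mul_inv_cancel, mul_one] at h5
    exact h5.symm
  have h5 := eq_one_of_ker_pow M hA hm hs h1 h4
  rw [hz] at h5
  calc g * x = (g * x * g⁻¹ * x⁻¹) * (x * g) := by group
    _ = x * g := by rw [h5, one_mul]

variable {W : Type*} [Group W] (cs : CoxeterSystem (CoxeterMatrix.B m) W) {r : ℕ} [Finite V] [Fact r.Prime] [CharP F r]
  (hA : AmbT Fr r M.I) {p0 : Fr.Adm} (hp0 : p0.c ≠ 0)

omit [Finite V] [Fact r.Prime] [CharP F r] in
theorem phi_surj (hm : 0 < m) : Function.Surjective M.φ := by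
  have h1 : M.φ.range = ⊤ := M.gen ⟨0, hm⟩ _ (fun _ _ _ _ => ⟨⟨_, rfl⟩, ⟨_, rfl⟩⟩) (fun _ => ⟨⟨_, rfl⟩, ⟨_, rfl⟩⟩)
  exact MonoidHom.range_eq_top.1 h1

include hA hp0 in
/-- **the centraliser of `P₀`** -/
theorem cen_of_sep (hG : GG cs (isCartan m) (WittModel.T M) (WittModel.X M) = ⊤) {p e w : ℕ} (he : 0 < e)
    (hs : ∀ a : F, a * H.σ a = 1 → a ^ p = 1 → a = 1) {P₀ : Subgroup Y}
    (hx : ∀ i < w, ∀ s : Bool, ∃ x : M.I, M.φ x ∈ P₀ ∧ x ^ p = 1 ∧
      ∃ f : F[X], ∀ v, aeval (x.1 : Module.End F V) f v = 0 ↔ v ∈ Mb Fr e i s) :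
    Subgroup.centralizer (P₀ : Set Y) ≤
      LJ cs (isCartan m) (WittModel.T M) (WittModel.X M) (H796.XZ.JA m e w ∪ H796.XZ.JT m e w) := by
  classical
  intro c hc
  have : Finite W := finite_W cs
  have R := rgdC_model M hA hp0 cs
  set N : Finset (Fin m) := Finset.univ.filter fun k => (k : ℕ) < e * w ∧ e ∣ (k : ℕ) + 1 with hN
  have e1 : H796.XZ.JA m e w ∪ H796.XZ.JT m e w = ((N : Set (Fin m)))ᶜ := by
    ext k
    rw [hN]
    simp only [H796.XZ.JA, H796.XZ.JT, Set.mem_union, Set.mem_ofPred_eq, Finset.coe_filter, Finset.mem_univ, true_and,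
      Set.mem_compl_iff, not_and]
    constructor
    · rintro (⟨h1, h2⟩ | h1)
      · exact fun _ => h2
      · intro h2
        omega
    · intro h1
      by_cases h2 : (k : ℕ) < e * w
      · left
        refine ⟨?_, h1 h2⟩
        rcases lt_or_eq_of_le (Nat.succ_le_of_lt h2) with h3 | h3
        · exact h3
        · exact absurd ⟨w, h3⟩ (h1 h2)
      · exact Or.inr (not_lt.1 h2)
  rw [e1, mem_LJ_iff_forall R hG]
  intro k hk
  have hk1 : (k : ℕ) < e * w ∧ e ∣ (k : ℕ) + 1 := by simpa [hN] using hk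
  have hm : 0 < m := lt_of_le_of_lt (Nat.zero_le _) k.2
  obtain ⟨g, rfl⟩ := phi_surj M hm c
  obtain ⟨j', hj'⟩ := hk1.2
  obtain ⟨j, rfl⟩ : ∃ j, j' = j + 1 := ⟨j' - 1, by
    rcases Nat.eq_zero_or_pos j' with h | h
    · rw [h, mul_zero] at hj'
      omega
    · omega⟩
  have hjw : j < w := by
    by_contra h
    have h1 : e * (w + 1) ≤ e * (j + 1) := Nat.mul_le_mul_left e (by omega)
    rw [← hj'] at h1
    have h2 : e * (w + 1) = e * w + e := Nat.mul_succ e w
    omega
  have key : ∀ s : Bool, g.1 ∈ StE (E Fr k s) := by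
    intro s
    refine mem_StE_of_finite (map_E_of_Mb he hj' fun i hij v hv => ?_)
    obtain ⟨x, hxP, hxp, f, hf⟩ := hx i (by omega) s
    have h1 : g * x = x * g := commute_of_phi M hA hm hs hxp ((Subgroup.mem_centralizer_iff.1 hc _ hxP).symm)
    have h2 : g.1 * x.1 = x.1 * g.1 := congrArg Subtype.val h1
    rw [← hf, aeval_commute h2, (hf v).2 hv, map_zero]
  exact (phi_mem_LJ_iff M cs hA hp0 hG).2 ⟨key true, key false⟩

/-! ### The subgroup `P₀` -/

include hA hp0 in
/-- a lift of an element of `L_{JA}` preserves the blocks -/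
theorem stE_Mb_of_mem_LJ (hG : GG cs (isCartan m) (WittModel.T M) (WittModel.X M) = ⊤) {e w : ℕ} (he : 0 < e)
    (hw : e * w ≤ m) {g : M.I}
    (hg : M.φ g ∈ LJ cs (isCartan m) (WittModel.T M) (WittModel.X M) (H796.XZ.JA m e w)) {i : ℕ} (hi : i < w) (s : Bool) :
    g.1 ∈ StE (Mb Fr e i s) := by
  have hI := hA.iso _ g.2
  have h1 : ∀ k : Fin m, k ∉ H796.XZ.JA m e w → ∀ s, g.1 ∈ StE (E Fr k s) := by
    intro k hk
    have hsub : H796.XZ.JA m e w ⊆ ({k}ᶜ : Set (Fin m)) := fun x hx hxk => hk (by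
      have : x = k := hxk
      rwa [this] at hx)
    have h2 : M.φ g ∈ LJ cs (isCartan m) (WittModel.T M) (WittModel.X M) ({k}ᶜ : Set (Fin m)) :=
      LJ_mono' (cs := cs) (h := isCartan m) (T := WittModel.T M) (X := WittModel.X M) hsub hg
    have h3 := (phi_mem_LJ_iff M cs hA hp0 hG).1 h2
    intro s
    cases s
    · exact h3.2
    · exact h3.1
  have h2 : e * (i + 1) ≤ e * w := Nat.mul_le_mul_left e hi
  have h2' : e * (i + 1) = e * i + e := Nat.mul_succ e i
  have hk1 : e * (i + 1) - 1 < m := by omega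
  set k1 : Fin m := ⟨e * (i + 1) - 1, hk1⟩ with hk1d
  have hk1' : (k1 : ℕ) + 1 = e * (i + 1) := by
    rw [hk1d]
    simp only
    omega
  have h3 := h1 k1 (fun h => h.2 (by rw [hk1']; exact Dvd.intro _ rfl)) s
  rcases Nat.eq_zero_or_pos i with h4 | h4
  · intro v
    rw [mem_Mb_iff hk1', mem_Mb_iff hk1', h3 v]
    subst h4
    constructor
    · exact fun h => ⟨h.1, fun j hj => absurd hj (by rw [mul_zero]; exact Nat.not_lt_zero _)⟩
    · exact fun h => ⟨h.1, fun j hj => absurd hj (by rw [mul_zero]; exact Nat.not_lt_zero _)⟩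
  · have h5 : e ≤ e * i := Nat.le_mul_of_pos_right e h4
    have hk0 : e * i - 1 < m := by omega
    set k0 : Fin m := ⟨e * i - 1, hk0⟩ with hk0d
    have hk0' : (k0 : ℕ) + 1 = e * i := by
      rw [hk0d]
      simp only
      omega
    have h6 := StE_Pp hI (h1 k0 (fun h => h.2 (by rw [hk0']; exact Dvd.intro _ rfl)) (!s))
    have h7 : ∀ v, (∀ j : Fin m, (j : ℕ) < e * i → H.h v (Fr.b (j, !s)) = 0) ↔ v ∈ Pp Fr k0 (!s) := by
      intro v
      constructor
      · exact fun h j hj => h j (by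
          have : (j : ℕ) ≤ k0 := Fin.le_def.1 hj
          omega)
      · exact fun h j hj => h j (Fin.le_def.2 (by omega))
    intro v
    rw [mem_Mb_iff hk1', mem_Mb_iff hk1', h3 v, h7, h7, h6 v]

include hA hp0 in
/-- the elements of the blocks preserve the flags -/
theorem mem_LJ_of_blk (hG : GG cs (isCartan m) (WittModel.T M) (WittModel.X M) = ⊤) {p e w : ℕ} {i : ℕ} (hi : i < w) {x : M.I} (hx : BlkEl Fr p e i x.1) :
    M.φ x ∈ LJ cs (isCartan m) (WittModel.T M) (WittModel.X M) (H796.XZ.JA m e w) := by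
  classical
  have : Finite W := finite_W cs
  have R := rgdC_model M hA hp0 cs
  set N : Finset (Fin m) := Finset.univ.filter fun k => ¬ ((k : ℕ) + 1 < e * w ∧ ¬ e ∣ (k : ℕ) + 1) with hN
  have e1 : H796.XZ.JA m e w = ((N : Set (Fin m)))ᶜ := by
    ext k
    rw [hN]
    simp only [H796.XZ.JA, Set.mem_ofPred_eq, Finset.coe_filter, Finset.mem_univ, true_and, Set.mem_compl_iff, not_not]
  rw [e1, mem_LJ_iff_forall R hG]
  intro k hk
  have hk1 : ¬ ((k : ℕ) + 1 < e * w ∧ ¬ e ∣ (k : ℕ) + 1) := by simpa [hN] using hk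
  have h2 : e * (i + 1) ≤ e * w := Nat.mul_le_mul_left e hi
  have h2' : e * (i + 1) = e * i + e := Nat.mul_succ e i
  have hout : ∀ l ∉ Bk m e i, ∀ s, x.1 (Fr.b (l, s)) = Fr.b (l, s) := by
    intro l hl s
    refine hx.fix _ fun s' => h_Mb_of_b fun k' hk' => Fr.hb_of_ne (fun h => hl ?_)
    have h3 : l = k' := h
    rwa [h3]
  have key : ∀ s, x.1 ∈ StE (E Fr k s) := by
    intro s
    refine mem_StE_of_finite fun v hv => ?_
    refine Submodule.span_induction (p := fun v _ => x.1 v ∈ E Fr k s) ?_ ?_ ?_ ?_ hv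
    · rintro _ ⟨l, hl, rfl⟩
      by_cases hlB : l ∈ Bk m e i
      · -- the block is in `E k s`
        have h3 := mem_Bk.1 hlB
        have h4 : (l : ℕ) ≤ k := Fin.le_def.1 hl
        have h5 : e * (i + 1) ≤ (k : ℕ) + 1 := by
          by_cases h6 : (k : ℕ) + 1 < e * w
          · have h7 : e ∣ (k : ℕ) + 1 := by
              by_contra h7
              exact hk1 ⟨h6, h7⟩
            obtain ⟨q, hq⟩ := h7
            rw [hq]
            refine Nat.mul_le_mul_left e ?_
            by_contra h8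
            have h9 : e * q ≤ e * i := Nat.mul_le_mul_left e (by omega)
            omega
          · omega
        have h6 : Mb Fr e i s ≤ E Fr k s := by
          refine Submodule.span_le.2 ?_
          rintro _ ⟨k', -, h7, rfl⟩
          exact b_mem_E (Fin.le_def.2 (by omega)) s
        exact h6 (hx.blk s _ (b_mem_Mb' hlB s))
      · rw [hout l hlB]
        exact b_mem_E hl s
    · rw [map_zero]
      exact zero_mem _
    · intro a b _ _ ha hb
      rw [map_add]
      exact add_mem ha hb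
    · intro c a _ ha
      rw [map_smul]
      exact Submodule.smul_mem _ _ ha
  exact (phi_mem_LJ_iff M cs hA hp0 hG).2 ⟨key true, key false⟩

include hA hp0 in
/-- the elements of the blocks can be chosen in the Sylow subgroup `P₀` of `L_{JA}` -/
theorem exists_mem_of_blk (hG : GG cs (isCartan m) (WittModel.T M) (WittModel.X M) = ⊤) {p e w : ℕ} [Fact p.Prime] (he : 0 < e)
    (hw : e * w ≤ m) {P₀ : Subgroup Y} (hIs : IsPGroup p P₀)
    (hS : ¬ p ∣ P₀.relIndex (LJ cs (isCartan m) (WittModel.T M) (WittModel.X M) (H796.XZ.JA m e w)))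
    {i : ℕ} (hi : i < w) {y : M.I} (hy : BlkEl Fr p e i y.1) : ∃ x : M.I, M.φ x ∈ P₀ ∧ BlkEl Fr p e i x.1 := by
  have hm : 0 < m := by
    have h2 : e * (i + 1) ≤ e * w := Nat.mul_le_mul_left e hi
    have h2' : e * (i + 1) = e * i + e := Nat.mul_succ e i
    omega
  have : Finite (V ≃ₗ[F] V) := Finite.of_injective (fun g : V ≃ₗ[F] V => (g : V → V)) DFunLike.coe_injective
  have : Finite Y := Finite.of_surjective _ (phi_surj M hm)
  set L := LJ cs (isCartan m) (WittModel.T M) (WittModel.X M) (H796.XZ.JA m e w) with hL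
  have hyL : M.φ y ∈ L := mem_LJ_of_blk M cs hA hp0 hG hi hy
  have hIs' : IsPGroup p (P₀.subgroupOf L) := hIs.comap_subtype
  set P : Sylow p L := hIs'.toSylow hS with hPd
  have hyp : (⟨M.φ y, hyL⟩ : L) ^ p = 1 := by
    apply Subtype.ext
    change M.φ y ^ p = 1
    rw [← map_pow]
    have h1 : y ^ p = 1 := Subtype.ext hy.pow
    rw [h1, map_one]
  have hQ : IsPGroup p (Subgroup.zpowers (⟨M.φ y, hyL⟩ : L)) := by
    rintro ⟨z, k, rfl⟩
    refine ⟨1, ?_⟩
    apply Subtype.ext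
    change ((⟨M.φ y, hyL⟩ : L) ^ k) ^ (p ^ 1) = 1
    rw [pow_one, ← zpow_natCast, ← zpow_mul, mul_comm, zpow_mul, zpow_natCast, hyp, one_zpow]
  obtain ⟨Q, hQ'⟩ := hQ.exists_le_sylow
  obtain ⟨c, hc⟩ := MulAction.exists_smul_eq L Q P
  obtain ⟨g, hg⟩ := phi_surj M hm (c : Y)
  have h1 : c * ⟨M.φ y, hyL⟩ * c⁻¹ ∈ (P : Subgroup L) := by
    rw [← hc]
    exact Subgroup.smul_mem_pointwise_smul _ (MulAut.conj c) _ (hQ' (Subgroup.mem_zpowers _))
  have h2 : M.φ (g * y * g⁻¹) ∈ P₀ := by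
    have h3 : ((c * ⟨M.φ y, hyL⟩ * c⁻¹ : L) : Y) ∈ P₀ := Subgroup.mem_subgroupOf.1 h1
    rw [map_mul, map_mul, map_inv, hg]
    exact h3
  refine ⟨g * y * g⁻¹, h2, ?_⟩
  have h3 : M.φ g ∈ L := by
    rw [hg]
    exact c.2
  exact hy.conj (hA.iso _ g.2) fun s => stE_Mb_of_mem_LJ M cs hA hp0 hG he hw h3 hi s

include hA hp0 in
/-- **The centraliser of `P₀`** : the field `cen` of `LinData` -/
theorem cen_of [Fintype F] (hG : GG cs (isCartan m) (WittModel.T M) (WittModel.X M) = ⊤) {p e w : ℕ} [Fact p.Prime]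
    (he : e = orderOf (Fintype.card F : ZMod p)) (hpF : ¬ p ∣ Fintype.card F) {t : ℕ}
    (hσ : ∀ a, H.σ a = a ^ (r ^ t)) (hlin : ∀ j, ¬ p ∣ Fintype.card F ^ j + r ^ t) (hw : e * w ≤ m) {P₀ : Subgroup Y} (hIs : IsPGroup p P₀)
    (hS : ¬ p ∣ P₀.relIndex (LJ cs (isCartan m) (WittModel.T M) (WittModel.X M) (H796.XZ.JA m e w)))
    (hy : ∀ i < w, ∃ y : M.I, BlkEl Fr p e i y.1) :
    Subgroup.centralizer (P₀ : Set Y) ≤
      LJ cs (isCartan m) (WittModel.T M) (WittModel.X M) (H796.XZ.JA m e w ∪ H796.XZ.JT m e w) := by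
  have he0 : 0 < e := by
    rw [he, orderOf_pos_iff, isOfFinOrder_iff_pow_eq_one]
    refine ⟨p - 1, ?_, ZMod.pow_card_sub_one_eq_one fun h => hpF ((ZMod.natCast_eq_zero_iff _ _).1 h)⟩
    have := (Fact.out : p.Prime).two_le
    omega
  refine cen_of_sep M cs hA hp0 hG he0 (p := p) (fun a h1 h2 => ?_) fun i hi s => ?_
  · -- `a ^ (1 + r ^ t) = 1`, `a ^ p = 1`
    rw [hσ, ← pow_succ'] at h1
    have h3 : ¬ p ∣ r ^ t + 1 := by
      have := hlin 0
      rwa [pow_zero, Nat.add_comm] at this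
    have h4 : Nat.Coprime p (r ^ t + 1) := ((Fact.out : p.Prime).coprime_iff_not_dvd).2 h3
    have h5 := Nat.dvd_gcd (orderOf_dvd_of_pow_eq_one h2) (orderOf_dvd_of_pow_eq_one h1)
    rw [h4] at h5
    exact orderOf_eq_one_iff.1 (Nat.dvd_one.1 h5)
  · obtain ⟨y, hy⟩ := hy i hi
    obtain ⟨x, hx1, hx2⟩ := exists_mem_of_blk M cs hA hp0 hG he0 hw hIs hS hi hy
    exact ⟨x, hx1, Subtype.ext hx2.pow, hx2.sep (hA.iso _ x.2) he hpF hσ hlin s⟩

end group

end Cfsg.Agent.H967.XZ
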