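import Cfsg.Agent.H493.CC.CoxD
import Cfsg.Agent.H236.XZ.SgnFlag

/-!
# The Weyl group of type `D_{n+2}` in the one of type `B_{n+2}` (helper967, for S4791, S4927)

`csD : CoxeterSystem (TypeD.M n) W`, `csB : CoxeterSystem (CoxeterMatrix.B (n + 2)) WB`.

* `em csD csB : W →* WB` : the embedding, its image are the elements of parity `1`; `em_simple_lt`, `em_simple_last`;
* `TD T` : the nodes of type `D` which correspond to the nodes `T` of type `B`; `em_mem_iff` : `em x ∈ W_{Tᶜ}` iff
  `x ∈ W_{(TD T)ᶜ}`;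
* `em_mem_iff_last`, `em_mem_iff_pd` : the two kinds of maximal subspaces;
* `coef_em_lt`, `coef_em_pd`, `coef_em_last`, `coef_em_tau` : the coefficients of the roots.
-/

set_option autoImplicit false
set_option linter.unusedSectionVars false

namespace Cfsg.Agent.H967.XZ

open Cfsg Cfsg.Agent.ChevalleyStructure.CoxeterGeom Cfsg.Agent.Tits.Roots Cfsg.Agent.H215.WB
open CoxeterSystem
open Cfsg.Agent.H236.XZ (sp ta de yv stb stb_eq sum_wt sp_ng sp_cancel sp_cancel')
open Cfsg.Agent.Nodes.TypeC (wt ng wt_ng wt_apply)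
open Cfsg.Agent.H493.CC (par homD)

variable {n : ℕ} {W WB : Type*} [Group W] [Group WB] (csD : CoxeterSystem (Nodes.TypeD.M n) W)
  (csB : CoxeterSystem (CoxeterMatrix.B (n + 2)) WB)

/-- the last node -/
def lst (n : ℕ) : Fin (n + 2) := ⟨n + 1, by omega⟩

/-- the node before the last -/
def nlst (n : ℕ) : Fin (n + 2) := ⟨n, by omega⟩

theorem val_lst : ((lst n : Fin (n + 2)) : ℕ) = n + 1 := rfl

theorem val_nlst : ((nlst n : Fin (n + 2)) : ℕ) = n := rfl

theorem eq_lst {k : Fin (n + 2)} (h : ¬ (k : ℕ) + 1 < n + 2) : k = lst n := Fin.ext (by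
  have := k.2
  rw [val_lst]
  omega)

/-- the embedding -/
noncomputable def em : W →* WB := ((isoB csB).symm : Wb (Fin (n + 2)) →* WB).comp (homD csD)

theorem homB_em (x : W) : homB csB (em csD csB x) = homD csD x := by
  change homB csB ((isoB csB).symm (homD csD x)) = _
  exact (isoB csB).apply_symm_apply _

theorem em_injective : Function.Injective (em csD csB) := by
  intro x y h
  apply Cfsg.Agent.H493.CC.homD_injective csD
  rw [← homB_em csD csB, ← homB_em csD csB, h]

theorem par_em (x : W) : par (homB csB (em csD csB x)) = 1 := by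
  rw [homB_em]
  exact (MonoidHom.mem_ker).1 (Cfsg.Agent.H493.CC.range_le csD ⟨x, rfl⟩)

theorem exists_em {w : WB} (hw : par (homB csB w) = 1) : ∃ x, em csD csB x = w := by
  have h1 : homB csB w ∈ (homD csD).range := by
    rw [Cfsg.Agent.H493.CC.range_homD]
    exact (MonoidHom.mem_ker).2 hw
  obtain ⟨x, hx⟩ := h1
  exact ⟨x, homB_injective csB (by rw [homB_em, hx])⟩

theorem em_simple_lt {k : Fin (n + 2)} (h : (k : ℕ) + 1 < n + 2) : em csD csB (csD.simple k) = csB.simple k := by
  apply homB_injective csB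
  rw [homB_em, Cfsg.Agent.H493.CC.homD_simple_lt csD h, homB_simple, gen_lt h]

/-- the sign change of the last coordinate -/
def tau : WB := csB.simple (lst n)

theorem tau_mul_tau : tau csB * tau csB = 1 := csB.simple_mul_simple_self _

theorem tau_inv : (tau csB)⁻¹ = tau csB := csB.inv_simple _

theorem sp_tau (a : Fin (n + 2) × Bool) :
    sp csB (tau csB) a = if a.1 = lst n then (a.1, !a.2) else a := by
  rw [tau, Cfsg.Agent.H236.XZ.sp_simple, Nodes.TypeC.sg, dif_neg (by rw [val_lst]; omega)]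

theorem par_tau : par (homB csB (tau csB)) = -1 := by
  rw [tau, homB_simple, gen_last (by rw [val_lst]; omega), Cfsg.Agent.H493.CC.par_inl]
  rw [Finset.prod_pi_mulSingle' (lst n) (-1 : ℤˣ) Finset.univ, if_pos (Finset.mem_univ _)]

theorem sp_injective : Function.Injective (sp csB) :=
  (cc_injective (n := n + 2)).comp (homB_injective csB)

theorem sp_em (x : W) : sp csB (em csD csB x) = cc (homD csD x) := by
  change cc (homB csB (em csD csB x)) = _
  rw [homB_em]

theorem em_simple_last : em csD csB (csD.simple (lst n)) = tau csB * csB.simple (nlst n) * tau csB := by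
  apply sp_injective csB
  rw [sp_em, Cfsg.Agent.H493.CC.homD_simple, Cfsg.Agent.H493.CC.cc_genD, map_mul, map_mul]
  refine Equiv.ext fun a => ?_
  rw [Equiv.Perm.mul_apply, Equiv.Perm.mul_apply, Cfsg.Agent.H493.CC.PD_apply, Nodes.TypeD.sg,
    dif_neg (by rw [val_lst]; omega)]
  have hl : ((nlst n : Fin (n + 2)) : ℕ) + 1 < n + 2 := by rw [val_nlst]; omega
  have h0 : (⟨(nlst n : Fin (n + 2)) + 1, hl⟩ : Fin (n + 2)) = lst n := rfl
  have h1 : ∀ b : Fin (n + 2) × Bool, sp csB (csB.simple (nlst n)) b =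
      if b.1 = nlst n then (lst n, b.2) else if b.1 = lst n then (nlst n, b.2) else b := by
    intro b
    rw [Cfsg.Agent.H236.XZ.sp_simple, Nodes.TypeC.sg, dif_pos hl, h0]
  have hpd : Nodes.TypeD.pd n = nlst n := rfl
  have hne : (nlst n : Fin (n + 2)) ≠ lst n := by
    intro e
    have := congrArg Fin.val e
    rw [val_lst, val_nlst] at this
    omega
  rw [hpd, sp_tau csB a]
  by_cases h2 : a.1 = lst n
  · rw [if_pos h2, if_pos h2, h1, if_neg (show ¬ a.1 = nlst n by rw [h2]; exact hne.symm), if_pos h2, sp_tau, if_neg hne]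
  · rw [if_neg h2, if_neg h2, h1]
    by_cases h3 : a.1 = nlst n
    · rw [if_pos h3, if_pos h3, sp_tau, if_pos rfl]
    · rw [if_neg h3, if_neg h3, if_neg h2, sp_tau, if_neg h2]

/-! ### the parabolic subgroups -/

/-- the nodes of type `D` which correspond to the nodes `T` of type `B` -/
def TD (T : Set (Fin (n + 2))) : Set (Fin (n + 2)) :=
  {k | ((k : ℕ) < n ∧ k ∈ T) ∨ (n ≤ (k : ℕ) ∧ nlst n ∈ T) ∨ ((k : ℕ) = n + 1 ∧ lst n ∈ T)}

theorem fix_of_stb {T : Set (Fin (n + 2))} {v : WB} (hv : v ∈ stb csB T) {t : Fin (n + 2)} (ht : t ∈ T) (i : Fin (n + 2)) :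
    ((sp csB v (i, true)).1 ≤ t ↔ i ≤ t) ∧ (i ≤ t → (sp csB v (i, true)).2 = true) := by
  have h := (inv_mem hv) t ht i
  rw [Cfsg.Agent.H236.XZ.yv_one] at h
  have e1 : ta csB v⁻¹ i = (sp csB v (i, true)).1 := by rw [ta, inv_inv]
  have e2 : de csB v⁻¹ i = (sp csB v (i, true)).2 := by rw [de, inv_inv]
  have h1 : ta csB v⁻¹ i ≤ t ↔ i ≤ t := by
    rw [← not_iff_not, ← Cfsg.Agent.H236.XZ.yv_eq_none, h]
    split_ifs with h3 <;> simp [h3]
  refine ⟨by rw [← e1]; exact h1, fun hi => ?_⟩
  rw [if_pos hi, yv, if_pos (h1.2 hi)] at h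
  rw [← e2]
  exact Option.some.inj h

/-- partial sums in type `D` -/
theorem sum_ee_D (x : Fin (n + 2) → ℤ) (m : Fin (n + 2)) : ∑ k ∈ Finset.Iic m, Nodes.TypeD.ee x k =
    if (m : ℕ) < n then x m else if (m : ℕ) = n then x m + x (lst n) else 2 * x m := by
  have h1 : ∀ k, Nodes.TypeD.ee x k = ∑ j, x j * Nodes.TypeD.bt j k := by
    intro k
    simp [Nodes.TypeD.ee, Finset.sum_apply]
  simp only [h1]
  rw [Finset.sum_comm]
  simp only [← Finset.mul_sum, Nodes.TypeD.sum_bt]
  have hm := m.2
  have hl : (Fin.last (n + 1) : Fin (n + 2)) = lst n := rfl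
  rw [Fin.sum_univ_castSucc, hl]
  have h2 : ∀ i : Fin (n + 1), ((i.castSucc : Fin (n + 2)) : ℕ) + 1 < n + 2 := fun i => by
    have := i.2
    simp only [Fin.val_castSucc]
    omega
  have h3 : ¬ ((lst n : Fin (n + 2)) : ℕ) + 1 < n + 2 := by rw [val_lst]; omega
  simp only [h2, h3, if_true, if_false]
  by_cases h4 : (m : ℕ) < n + 1
  · have h5 : m = (⟨m, h4⟩ : Fin (n + 1)).castSucc := by ext; simp
    rw [Finset.sum_eq_single (⟨m, h4⟩ : Fin (n + 1))]
    · rw [← h5, if_pos rfl]
      split_ifs <;> omega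
    · intro j _ hj
      rw [if_neg, mul_zero]
      intro h'
      apply hj
      ext
      have := congrArg Fin.val h'
      simpa using this.symm
    · simp
  · have h5 : m = lst n := by ext; rw [val_lst]; omega
    rw [Finset.sum_eq_zero]
    · subst h5
      rw [val_lst, if_neg (by omega), if_pos rfl, if_neg (by omega), if_neg (by omega)]
      ring
    · intro j _
      rw [if_neg, mul_zero]
      rintro h'
      have := congrArg Fin.val h'
      have hj := j.2
      simp at this
      omega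

theorem ee_em (x : W) {y : Fin (n + 2) → ℤ} {a b : Fin (n + 2) × Bool} (h : Nodes.TypeD.ee y = wt a + wt b) :
    Nodes.TypeD.ee (rep csD (Nodes.TypeD.isCartan n) x y) = wt (sp csB (em csD csB x) a) + wt (sp csB (em csD csB x) b) := by
  rw [sp_em]
  exact Cfsg.Agent.H493.CC.ee_actD csD x y a b h

theorem nlst_ne_lst : (nlst n : Fin (n + 2)) ≠ lst n := by
  intro e
  have := congrArg Fin.val e
  rw [val_lst, val_nlst] at this
  omega

/-- an even element fixing the standard set of `n + 1` indices fixes the last signed index -/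
theorem last_of_even {v : WB} (hv : v ∈ stb csB {nlst n}) (hp : par (homB csB v) = 1) :
    sp csB v (lst n, true) = (lst n, true) := by
  have h1 := fix_of_stb csB hv (Set.mem_singleton _)
  have h2 : (sp csB v (lst n, true)).1 = lst n := by
    have h3 := (h1 (lst n)).1
    have h4 : ¬ (sp csB v (lst n, true)).1 ≤ nlst n := by
      rw [h3, Fin.le_def, val_lst, val_nlst]
      omega
    refine Fin.ext ?_
    rw [Fin.le_def, val_nlst] at h4
    have := (sp csB v (lst n, true)).1.2
    rw [val_lst]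
    omega
  refine Prod.ext h2 ?_
  -- the signs
  set g := homB csB v with hg
  have h5 : ∀ i, sp csB v (i, true) = (g.right i, bx (g.left (g.right i)) true) := fun i => rfl
  have h6 : g.right (lst n) = lst n := h2
  have h7 : ∀ a : Fin (n + 2), a ≠ lst n → g.left a = 1 := by
    intro a ha
    obtain ⟨i, rfl⟩ := g.right.surjective a
    have hi : i ≠ lst n := fun e => ha (by rw [e]; exact h6)
    have hi' : i ≤ nlst n := by
      rw [Fin.le_def, val_nlst]
      have := i.2
      by_contra h8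
      exact hi (Fin.ext (by rw [val_lst]; omega))
    have h8 := (h1 i).2 hi'
    rw [h5] at h8
    by_contra h9
    have h10 : g.left (g.right i) = -1 := (Int.units_eq_one_or _).resolve_left h9
    rw [h10, bx_neg] at h8
    exact absurd h8 Bool.false_ne_true
  have h8 : g.left (lst n) = 1 := by
    have h9 : par g = g.left (lst n) := by
      rw [Cfsg.Agent.H493.CC.par_apply]
      exact Finset.prod_eq_single _ (fun a _ ha => h7 a ha) (fun h => absurd (Finset.mem_univ _) h)
    rw [← h9]
    exact hp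
  rw [h5, h6, h8, bx_one]

/-- positivity -/
theorem coef_pos {T : Set (Fin (n + 2))} {x : W} (hx : em csD csB x ∈ stb csB T) {k : Fin (n + 2)} (hk : k ∈ TD T) :
    rep csD (Nodes.TypeD.isCartan n) x (sr k) k = 1 := by
  set v := em csD csB x with hv
  set y := rep csD (Nodes.TypeD.isCartan n) x (sr k) with hy
  have h0 : Nodes.TypeD.ee y = wt (sp csB v (k, true)) + wt (sp csB v (Nodes.TypeD.nx k)) :=
    ee_em csD csB x (Nodes.TypeD.ee_sr k)
  have hs : ∀ t, ∑ l ∈ Finset.Iic t, Nodes.TypeD.ee y l = (if (sp csB v (k, true)).1 ≤ t then (if (sp csB v (k, true)).2 then 1 else -1) else 0) +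
      (if (sp csB v (Nodes.TypeD.nx k)).1 ≤ t then (if (sp csB v (Nodes.TypeD.nx k)).2 then 1 else -1) else 0) := by
    intro t
    rw [h0]
    simp only [Pi.add_apply, Finset.sum_add_distrib, sum_wt]
  have hneg : ∀ i, sp csB v (i, false) = ng (sp csB v (i, true)) := fun i => sp_ng csB v (i, true)
  have hfst : ∀ i, (sp csB v (i, false)).1 = (sp csB v (i, true)).1 := fun i => by rw [hneg]; rfl
  rcases hk with ⟨hkn, hkT⟩ | ⟨hkn, hnT⟩ | ⟨hkn, hlT⟩
  · -- `k < n`
    have h1 := fix_of_stb csB hx hkT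
    have h2 := sum_ee_D y k
    rw [if_pos hkn, hs k, if_pos ((h1 k).1.2 le_rfl), if_pos ((h1 k).2 le_rfl)] at h2
    have hk1 : (k : ℕ) + 1 < n + 2 := by omega
    have h3 : Nodes.TypeD.nx k = (⟨k + 1, hk1⟩, false) := by
      unfold Nodes.TypeD.nx
      rw [dif_pos hk1]
    rw [h3, if_neg, add_zero] at h2
    · exact h2.symm
    · rw [hfst, (h1 _).1, Fin.le_def]
      simp
  · have h1 := fix_of_stb csB hx hnT
    have hlast : sp csB v (lst n, true) = (lst n, true) :=
      last_of_even csB (fun t ht i => by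
        have ht' : t = nlst n := ht
        rw [ht']
        exact hx _ hnT i) (par_em csD csB x)
    have hlast' : sp csB v (lst n, false) = (lst n, false) := by
      rw [hneg, hlast]
      rfl
    have hn1 := (h1 (nlst n)).1.2 le_rfl
    have hn2 := (h1 (nlst n)).2 le_rfl
    have hall : ∀ i : Fin (n + 2), i ≤ lst n := fun i => by
      have := i.2
      rw [Fin.le_def, val_lst]
      omega
    have hln : ¬ (lst n : Fin (n + 2)) ≤ nlst n := by
      rw [Fin.le_def, val_lst, val_nlst]
      omega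
    by_cases hk2 : (k : ℕ) = n
    · have hkn' : k = nlst n := Fin.ext hk2
      have h3 : Nodes.TypeD.nx k = (lst n, false) := by
        unfold Nodes.TypeD.nx
        rw [dif_pos (by omega)]
        congr 1
        exact Fin.ext (by rw [val_lst]; simp only; omega)
      have h4 := sum_ee_D y (nlst n)
      have h5 := sum_ee_D y (lst n)
      rw [hs, h3, hlast', hkn', if_pos hn1, if_pos hn2, if_neg hln, val_nlst, if_neg (by omega), if_pos rfl] at h4
      rw [hs, h3, hlast', hkn', if_pos (hall _), if_pos hn2, if_pos (hall _),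
        if_neg (show ¬ ((lst n, false) : Fin (n + 2) × Bool).2 = true from Bool.false_ne_true), val_lst,
        if_neg (by omega), if_neg (by omega)] at h5
      rw [hkn']
      linarith
    · have hkl : k = lst n := Fin.ext (by have := k.2; rw [val_lst]; omega)
      have h3 : Nodes.TypeD.nx k = (nlst n, true) := by
        unfold Nodes.TypeD.nx
        rw [dif_neg (by rw [hkl, val_lst]; omega)]
        rfl
      have h5 := sum_ee_D y (lst n)
      rw [hs, h3, hkl, hlast, if_pos (hall _), if_pos rfl, if_pos (hall _), if_pos hn2, val_lst,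
        if_neg (by omega), if_neg (by omega)] at h5
      rw [hkl]
      linarith
  · have h1 := fix_of_stb csB hx hlT
    have hkl : k = lst n := Fin.ext hkn
    have hall : ∀ i : Fin (n + 2), i ≤ lst n := fun i => by
      have := i.2
      rw [Fin.le_def, val_lst]
      omega
    have h3 : Nodes.TypeD.nx k = (nlst n, true) := by
      unfold Nodes.TypeD.nx
      rw [dif_neg (by rw [hkl, val_lst]; omega)]
      rfl
    have h5 := sum_ee_D y (lst n)
    rw [hs, h3, hkl, if_pos (hall _), if_pos ((h1 _).2 (hall _)), if_pos (hall _), if_pos ((h1 _).2 (hall _)), val_lst,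
      if_neg (by omega), if_neg (by omega)] at h5
    rw [hkl]
    linarith

theorem em_simple_mem {T : Set (Fin (n + 2))} {k : Fin (n + 2)} (hk : k ∉ TD T) :
    em csD csB (csD.simple k) ∈ Subgroup.closure (csB.simple '' Tᶜ) := by
  have hk' : ¬ (((k : ℕ) < n ∧ k ∈ T) ∨ (n ≤ (k : ℕ) ∧ nlst n ∈ T) ∨ ((k : ℕ) = n + 1 ∧ lst n ∈ T)) := hk
  push Not at hk'
  obtain ⟨h1, h2, h3⟩ := hk'
  by_cases hk1 : (k : ℕ) + 1 < n + 2
  · rw [em_simple_lt csD csB hk1]
    refine Subgroup.subset_closure ⟨k, fun hkT => ?_, rfl⟩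
    rcases lt_or_ge (k : ℕ) n with h4 | h4
    · exact h1 h4 hkT
    · have h5 : k = nlst n := Fin.ext (by rw [val_nlst]; omega)
      exact h2 h4 (h5 ▸ hkT)
  · have h4 := eq_lst hk1
    subst h4
    rw [em_simple_last]
    have h5 : nlst n ∉ T := h2 (by rw [val_lst]; omega)
    have h6 : lst n ∉ T := h3 val_lst
    have h7 : tau csB ∈ Subgroup.closure (csB.simple '' Tᶜ) := Subgroup.subset_closure ⟨lst n, h6, rfl⟩
    exact mul_mem (mul_mem h7 (Subgroup.subset_closure ⟨nlst n, h5, rfl⟩)) h7

/-- **The parabolic subgroups of type `D`.** -/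
theorem em_mem_iff {T : Set (Fin (n + 2))} {x : W} :
    em csD csB x ∈ Subgroup.closure (csB.simple '' Tᶜ) ↔ x ∈ Subgroup.closure (csD.simple '' (TD T)ᶜ) := by
  constructor
  · rw [← stb_eq]
    induction hl : csD.length x using Nat.strong_induction_on generalizing x with
    | _ l ih =>
      intro hx
      by_cases h1 : x = 1
      · rw [h1]
        exact one_mem _
      · obtain ⟨k, hk⟩ := csD.exists_rightDescent_of_ne_one h1
        have hk' : csD.length (x * csD.simple k) < csD.length x := hk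
        by_cases hkT : k ∈ TD T
        · exfalso
          have h2 := coef_pos csD csB hx hkT
          have h3 : rep csD (Nodes.TypeD.isCartan n) x (sr k) ≤ 0 := nonpos_of_lt csD (Nodes.TypeD.isCartan n) x k hk'
          have h4 := h3 k
          rw [h2, Pi.zero_apply] at h4
          exact absurd h4 (by norm_num)
        · have h2 : csD.simple k ∈ Subgroup.closure (csD.simple '' (TD T)ᶜ) := Subgroup.subset_closure ⟨k, hkT, rfl⟩
          have h3 : em csD csB (x * csD.simple k) ∈ stb csB T := by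
            rw [map_mul]
            refine mul_mem hx ?_
            rw [stb_eq]
            exact em_simple_mem csD csB hkT
          have h4 := ih _ (hl ▸ hk') rfl h3
          have h5 := mul_mem h4 h2
          rwa [csD.simple_mul_simple_cancel_right] at h5
  · intro hx
    have h1 : Subgroup.closure (csD.simple '' (TD T)ᶜ) ≤ (Subgroup.closure (csB.simple '' Tᶜ)).comap (em csD csB) := by
      rw [Subgroup.closure_le]
      rintro _ ⟨k, hk, rfl⟩
      exact em_simple_mem csD csB hk
    exact h1 hx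

/-- the subgroups generated by simple reflections which are permutations -/
theorem map_em_closure {S : Set (Fin (n + 2))} (hS : ∀ k ∈ S, (k : ℕ) + 1 < n + 2) :
    (Subgroup.closure (csD.simple '' S)).map (em csD csB) = Subgroup.closure (csB.simple '' S) := by
  rw [MonoidHom.map_closure, ← Set.image_comp]
  congr 1
  exact Set.image_congr fun k hk => em_simple_lt csD csB (hS k hk)

theorem tau_comm {k : Fin (n + 2)} (hk : (k : ℕ) < n) : tau csB * csB.simple k = csB.simple k * tau csB := by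
  have hk1 : (k : ℕ) + 1 < n + 2 := by omega
  have h1 : k ≠ lst n := by
    intro e
    rw [e, val_lst] at hk
    omega
  have h2 : (⟨k + 1, hk1⟩ : Fin (n + 2)) ≠ lst n := by
    intro e
    have := congrArg Fin.val e
    rw [val_lst] at this
    simp only at this
    omega
  apply sp_injective csB
  rw [map_mul, map_mul]
  refine Equiv.ext fun a => ?_
  have h3 : ∀ b : Fin (n + 2) × Bool, sp csB (csB.simple k) b =
      if b.1 = k then (⟨k + 1, hk1⟩, b.2) else if b.1 = ⟨k + 1, hk1⟩ then (k, b.2) else b := by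
    intro b
    rw [Cfsg.Agent.H236.XZ.sp_simple, Nodes.TypeC.sg, dif_pos hk1]
  rw [Equiv.Perm.mul_apply, Equiv.Perm.mul_apply, h3 a, sp_tau csB a]
  by_cases h4 : a.1 = lst n
  · have h5 : ¬ a.1 = k := fun e => h1 (e.symm.trans h4)
    have h6 : ¬ a.1 = ⟨k + 1, hk1⟩ := fun e => h2 (e.symm.trans h4)
    rw [if_neg h5, if_neg h6, if_pos h4, sp_tau, if_pos h4, h3, if_neg h5, if_neg h6]
  · rw [if_neg h4, h3 a]
    by_cases h5 : a.1 = k
    · rw [if_pos h5, sp_tau, if_neg h2]
    · rw [if_neg h5]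
      by_cases h6 : a.1 = ⟨k + 1, hk1⟩
      · rw [if_pos h6, sp_tau, if_neg h1]
      · rw [if_neg h6, sp_tau, if_neg h4]

/-- the parabolic subgroups of the other family of maximal subspaces -/
theorem map_em_closure_tau {S : Set (Fin (n + 2))} (hS : ∀ k ∈ S, (k : ℕ) < n) :
    (Subgroup.closure (csD.simple '' (insert (lst n) S))).map (em csD csB) =
      (Subgroup.closure (csB.simple '' (insert (nlst n) S))).map (MulAut.conj (tau csB)).toMonoidHom := by
  rw [MonoidHom.map_closure, MonoidHom.map_closure, ← Set.image_comp, ← Set.image_comp, Set.image_insert_eq,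
    Set.image_insert_eq]
  congr 1
  congr 1
  · change em csD csB (csD.simple (lst n)) = tau csB * csB.simple (nlst n) * (tau csB)⁻¹
    rw [em_simple_last, tau_inv]
  · refine Set.image_congr fun k hk => ?_
    change em csD csB (csD.simple k) = tau csB * csB.simple k * (tau csB)⁻¹
    rw [em_simple_lt csD csB (by have := hS k hk; omega), tau_comm csB (hS k hk), mul_inv_cancel_right]

/-! ### the coefficients -/

section coef

variable (x : W) {j : Fin (n + 2)} (hj : (j : ℕ) + 1 < n + 2)

include hj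

theorem nx_eq_D : Nodes.TypeD.nx j = (⟨j + 1, hj⟩, false) := by
  unfold Nodes.TypeD.nx
  rw [dif_pos hj]

theorem nx_eq_B : Nodes.TypeC.nx j = (⟨j + 1, hj⟩, false) := by
  unfold Nodes.TypeC.nx
  rw [dif_pos hj]

theorem ee_inv_D : Nodes.TypeD.ee (rep csD (Nodes.TypeD.isCartan n) x⁻¹ (sr j)) =
    wt (sp csB (em csD csB x)⁻¹ (j, true)) + wt (sp csB (em csD csB x)⁻¹ (⟨j + 1, hj⟩, false)) := by
  have h := ee_em csD csB x⁻¹ (a := (j, true)) (b := Nodes.TypeD.nx j) (Nodes.TypeD.ee_sr j)
  rw [h, nx_eq_D hj, map_inv]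

theorem ee_inv_B (w : WB) : Nodes.TypeC.ee (rep csB (Nodes.TypeC.isCartan (n + 2)) w⁻¹ (sr j)) =
    wt (sp csB w⁻¹ (j, true)) + wt (sp csB w⁻¹ (⟨j + 1, hj⟩, false)) := by
  have h := ee_act csB w⁻¹ (sr j) (j, true) (Nodes.TypeC.nx j) (Nodes.TypeC.ee_sr j)
  rw [h, nx_eq_B hj]
  rfl

/-- the coefficients in type `B` and `D` -/
theorem coef_em (t : Fin (n + 2)) : rep csB (Nodes.TypeC.isCartan (n + 2)) (em csD csB x)⁻¹ (sr j) t =
    if (t : ℕ) = n then rep csD (Nodes.TypeD.isCartan n) x⁻¹ (sr j) (nlst n) + rep csD (Nodes.TypeD.isCartan n) x⁻¹ (sr j) (lst n)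
      else rep csD (Nodes.TypeD.isCartan n) x⁻¹ (sr j) t := by
  have h1 := sum_ee_D (rep csD (Nodes.TypeD.isCartan n) x⁻¹ (sr j)) t
  have h2 := Cfsg.Agent.H236.XZ.sum_ee (rep csB (Nodes.TypeC.isCartan (n + 2)) (em csD csB x)⁻¹ (sr j)) t
  rw [ee_inv_D csD csB x hj] at h1
  rw [ee_inv_B csB hj] at h2
  rw [h1] at h2
  have ht := t.2
  rcases lt_trichotomy (t : ℕ) n with h3 | h3 | h3
  · rw [if_pos h3, if_pos (by omega)] at h2
    rw [if_neg (by omega)]
    linarith
  · rw [if_neg (by omega), if_pos h3, if_pos (by omega)] at h2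
    rw [if_pos h3]
    have h4 : t = nlst n := Fin.ext h3
    rw [h4] at h2 ⊢
    linarith
  · rw [if_neg (by omega), if_neg (by omega), if_neg (by omega)] at h2
    rw [if_neg (by omega)]
    linarith

/-- the value of a sign -/
def sv (b : Bool) : ℤ := if b then 1 else -1

/-- the coefficients as signs -/
theorem coef_sv (w : WB) (t : Fin (n + 2)) : (if (t : ℕ) + 1 < n + 2 then 1 else 2) *
      rep csB (Nodes.TypeC.isCartan (n + 2)) w⁻¹ (sr j) t =
    (if (sp csB w⁻¹ (j, true)).1 ≤ t then sv (sp csB w⁻¹ (j, true)).2 else 0) +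
      (if (sp csB w⁻¹ (⟨j + 1, hj⟩, false)).1 ≤ t then sv (sp csB w⁻¹ (⟨j + 1, hj⟩, false)).2 else 0) := by
  rw [← Cfsg.Agent.H236.XZ.sum_ee, ee_inv_B csB hj]
  simp only [Pi.add_apply, Finset.sum_add_distrib, sum_wt]
  rfl

theorem fst_ne (w : WB) : (sp csB w⁻¹ (j, true)).1 ≠ (sp csB w⁻¹ (⟨j + 1, hj⟩, false)).1 := by
  intro e
  have h1 : sp csB w⁻¹ (⟨j + 1, hj⟩, false) = ng (sp csB w⁻¹ (⟨j + 1, hj⟩, true)) := sp_ng csB w⁻¹ (⟨j + 1, hj⟩, true)
  have h2 : (sp csB w⁻¹ (⟨j + 1, hj⟩, false)).1 = (sp csB w⁻¹ (⟨j + 1, hj⟩, true)).1 := by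
    rw [h1]
    rfl
  rw [h2] at e
  have h3 := (Cfsg.Agent.H236.XZ.ta_bijective csB w).1 (a₁ := j) (a₂ := ⟨j + 1, hj⟩) e
  have := congrArg Fin.val h3
  simp only at this
  omega

theorem le_nlst_iff (i : Fin (n + 2)) : i ≤ nlst n ↔ i ≠ lst n := by
  have := i.2
  rw [Fin.le_def, val_nlst, Ne, Fin.ext_iff, val_lst]
  omega

theorem le_lst (i : Fin (n + 2)) : i ≤ lst n := by
  have := i.2
  rw [Fin.le_def, val_lst]
  omega

theorem last_zero_of (w : WB) (h : rep csB (Nodes.TypeC.isCartan (n + 2)) w⁻¹ (sr j) (nlst n) = 0) :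
    rep csB (Nodes.TypeC.isCartan (n + 2)) w⁻¹ (sr j) (lst n) = 0 := by
  have h1 := coef_sv csB hj w (nlst n)
  have h2 := coef_sv csB hj w (lst n)
  have h3 := fst_ne csB hj w
  rw [h, mul_zero] at h1
  rw [if_neg (by rw [val_lst]; omega), if_pos (le_lst hj _), if_pos (le_lst hj _)] at h2
  have hs : ∀ b, sv b ≠ 0 := by decide
  by_cases h4 : (sp csB w⁻¹ (j, true)).1 = lst n
  · by_cases h5 : (sp csB w⁻¹ (⟨j + 1, hj⟩, false)).1 = lst n
    · exact absurd (h4.trans h5.symm) h3
    · rw [if_neg (by rw [le_nlst_iff hj]; exact fun h => h h4), if_pos ((le_nlst_iff hj _).2 h5), zero_add] at h1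
      exact absurd h1.symm (hs _)
  · by_cases h5 : (sp csB w⁻¹ (⟨j + 1, hj⟩, false)).1 = lst n
    · rw [if_pos ((le_nlst_iff hj _).2 h4), if_neg (by rw [le_nlst_iff hj]; exact fun h => h h5), add_zero] at h1
      exact absurd h1.symm (hs _)
    · rw [if_pos ((le_nlst_iff hj _).2 h4), if_pos ((le_nlst_iff hj _).2 h5)] at h1
      rw [← h1] at h2
      linarith

/-- the coefficients after the sign change -/
theorem coef_tau (w : WB) (t : Fin (n + 2)) : rep csB (Nodes.TypeC.isCartan (n + 2)) (w * tau csB)⁻¹ (sr j) t =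
    if t = lst n then rep csB (Nodes.TypeC.isCartan (n + 2)) w⁻¹ (sr j) (nlst n) - rep csB (Nodes.TypeC.isCartan (n + 2)) w⁻¹ (sr j) (lst n)
      else rep csB (Nodes.TypeC.isCartan (n + 2)) w⁻¹ (sr j) t := by
  have h1 := coef_sv csB hj (w * tau csB) t
  have e : ∀ a, sp csB (w * tau csB)⁻¹ a = sp csB (tau csB) (sp csB w⁻¹ a) := by
    intro a
    rw [mul_inv_rev, tau_inv, map_mul, Equiv.Perm.mul_apply]
  have hfst : ∀ a, (sp csB (tau csB) a).1 = a.1 := by
    intro a
    rw [sp_tau]
    split_ifs <;> rfl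
  have hsnd : ∀ a : Fin (n + 2) × Bool, sv (sp csB (tau csB) a).2 = if a.1 = lst n then - sv a.2 else sv a.2 := by
    intro a
    rw [sp_tau]
    split_ifs
    · cases a.2 <;> rfl
    · rfl
  rw [e, e, hfst, hfst, hsnd, hsnd] at h1
  by_cases ht : t = lst n
  · rw [if_pos ht]
    rw [ht, if_neg (by rw [val_lst]; omega), if_pos (le_lst hj _), if_pos (le_lst hj _)] at h1
    have h2 := coef_sv csB hj w (nlst n)
    have h3 := coef_sv csB hj w (lst n)
    rw [if_neg (by rw [val_lst]; omega), if_pos (le_lst hj _), if_pos (le_lst hj _)] at h3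
    rw [if_pos (by rw [val_nlst]; omega), one_mul] at h2
    simp only [le_nlst_iff hj] at h2
    rw [ht]
    split_ifs at h1 h2 <;> first | contradiction | linarith
  · rw [if_neg ht]
    have h2 := coef_sv csB hj w t
    have h3 : ∀ a : Fin (n + 2), a ≤ t → a ≠ lst n := by
      intro a ha ea
      apply ht
      rw [ea, Fin.le_def, val_lst] at ha
      have := t.2
      exact Fin.ext (by rw [val_lst]; omega)
    have h4 : ∀ a : Fin (n + 2) × Bool, (if a.1 ≤ t then (if a.1 = lst n then - sv a.2 else sv a.2) else 0) =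
        if a.1 ≤ t then sv a.2 else 0 := by
      intro a
      by_cases h5 : a.1 ≤ t
      · rw [if_pos h5, if_pos h5, if_neg (h3 _ h5)]
      · rw [if_neg h5, if_neg h5]
    rw [h4, h4, ← h2] at h1
    have ht1 : (t : ℕ) + 1 < n + 2 := by
      by_contra h5
      exact ht (eq_lst h5)
    rw [if_pos ht1, one_mul, one_mul] at h1
    exact h1

end coef

/-- **good elements** -/
theorem good_em_iff {T : Set (Fin (n + 2))} (x : W) {j : Fin (n + 2)} (hj : (j : ℕ) + 1 < n + 2) :
    (∀ t ∈ TD T, rep csD (Nodes.TypeD.isCartan n) x⁻¹ (sr j) t = 0) ↔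
      ∀ t ∈ T, rep csB (Nodes.TypeC.isCartan (n + 2)) (em csD csB x)⁻¹ (sr j) t = 0 := by
  constructor
  · intro h t ht
    rw [coef_em csD csB x hj]
    by_cases h1 : (t : ℕ) = n
    · have h2 : t = nlst n := Fin.ext h1
      subst h2
      rw [if_pos h1, h (nlst n) (Or.inr (Or.inl ⟨by rw [val_nlst], ht⟩)),
        h (lst n) (Or.inr (Or.inl ⟨by rw [val_lst]; omega, ht⟩)), add_zero]
    · rw [if_neg h1]
      rcases lt_or_ge (t : ℕ) n with h2 | h2
      · exact h t (Or.inl ⟨h2, ht⟩)
      · have h3 : t = lst n := Fin.ext (by have := t.2; rw [val_lst]; omega)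
        subst h3
        exact h _ (Or.inr (Or.inr ⟨val_lst, ht⟩))
  · rintro h t (⟨h1, h2⟩ | ⟨h1, h2⟩ | ⟨h1, h2⟩)
    · have h3 := h t h2
      rwa [coef_em csD csB x hj, if_neg (by omega)] at h3
    · have h3 := h _ h2
      have h4 := last_zero_of csB hj _ h3
      rw [coef_em csD csB x hj, if_pos val_nlst] at h3
      rw [coef_em csD csB x hj, if_neg (by rw [val_lst]; omega)] at h4
      rw [h4, add_zero] at h3
      rcases eq_or_lt_of_le h1 with h5 | h5
      · have h6 : t = nlst n := Fin.ext h5.symm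
        rw [h6]
        exact h3
      · have h6 : t = lst n := Fin.ext (by have := t.2; rw [val_lst]; omega)
        rw [h6]
        exact h4
    · have h3 := h _ h2
      have h6 : t = lst n := Fin.ext h1
      rwa [coef_em csD csB x hj, if_neg (by rw [val_lst]; omega), ← h6] at h3

/-- good elements and the other family of maximal subspaces -/
theorem good_tau_iff {T : Set (Fin (n + 2))} (hT : ∀ t ∈ T, (t : ℕ) < n) (x : W) {j : Fin (n + 2)} (hj : (j : ℕ) + 1 < n + 2) :
    (∀ t ∈ insert (nlst n) T, rep csD (Nodes.TypeD.isCartan n) x⁻¹ (sr j) t = 0) ↔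
      ∀ t ∈ insert (lst n) T, rep csB (Nodes.TypeC.isCartan (n + 2)) (em csD csB x * tau csB)⁻¹ (sr j) t = 0 := by
  have hl : rep csB (Nodes.TypeC.isCartan (n + 2)) (em csD csB x * tau csB)⁻¹ (sr j) (lst n) =
      rep csD (Nodes.TypeD.isCartan n) x⁻¹ (sr j) (nlst n) := by
    rw [coef_tau csB hj, if_pos rfl, coef_em csD csB x hj, if_pos val_nlst, coef_em csD csB x hj,
      if_neg (by rw [val_lst]; omega), add_sub_cancel_right]
  have ht' : ∀ t ∈ T, rep csB (Nodes.TypeC.isCartan (n + 2)) (em csD csB x * tau csB)⁻¹ (sr j) t =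
      rep csD (Nodes.TypeD.isCartan n) x⁻¹ (sr j) t := by
    intro t ht
    have h1 := hT t ht
    rw [coef_tau csB hj, if_neg (by intro e; rw [e, val_lst] at h1; omega), coef_em csD csB x hj, if_neg (by omega)]
  constructor
  · intro h t ht
    rcases Set.mem_insert_iff.1 ht with rfl | ht
    · rw [hl]
      exact h _ (Set.mem_insert _ _)
    · rw [ht' t ht]
      exact h _ (Set.mem_insert_of_mem _ ht)
  · intro h t ht
    rcases Set.mem_insert_iff.1 ht with rfl | ht
    · rw [← hl]
      exact h _ (Set.mem_insert _ _)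
    · rw [← ht' t ht]
      exact h _ (Set.mem_insert_of_mem _ ht)

end Cfsg.Agent.H967.XZ
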